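import Cfsg.Agent.FischerThm.Refl.Model
import Cfsg.Agent.S5357

/-!
# The projective reflection group of fixed norm

Its reflections are norm-one vectors up to sign of the form scaled by the norm, two commute exactly
when orthogonal or equal, and the centre is trivial.
-/

set_option autoImplicit false

namespace Cfsg.Agent.FischerThm.Refl

open Module QuadraticMap Cfsg Cfsg.Agent.Classical

variable {n : ℕ} {Q : QuadraticForm (ZMod 3) (Fin n → ZMod 3)} {c : ZMod 3}

/-- The projective group. -/
abbrev PR (Q : QuadraticForm (ZMod 3) (Fin n → ZMod 3)) (c : ZMod 3) : Type :=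
  ↥(Cfsg.reflectionSubgroup (⇑Q) c) ⧸ Subgroup.center ↥(Cfsg.reflectionSubgroup (⇑Q) c)

/-- The reflections in it. -/
def PRset (Q : QuadraticForm (ZMod 3) (Fin n → ZMod 3)) (c : ZMod 3) : Set (PR Q c) :=
  (QuotientGroup.mk : ↥(Cfsg.reflectionSubgroup (⇑Q) c) → _) ''
    {g : ↥(Cfsg.reflectionSubgroup (⇑Q) c) |
      (g : ↥(Cfsg.isometryGroup (ZMod 3) (⇑Q))) ∈ Cfsg.reflectionsOfNorm (⇑Q) c}

theorem polar_scaled (x y : Fin n → ZMod 3) : polar (c • Q) x y = c * polar Q x y := by
  simp only [polar, smul_apply, smul_eq_mul]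
  ring

theorem sp_scaled (hQ : (polarBilin Q).Nondegenerate) (hn : 5 ≤ n) (hc : c ≠ 0) : Sp (c • Q) := by
  refine ⟨inferInstance, ⟨fun x hx => hQ.1 x fun y => ?_, fun y hy => hQ.2 y fun x => ?_⟩,
    by rw [Module.finrank_fin_fun]; exact hn⟩
  · have h := hx y
    rw [polarBilin_apply_apply, polar_scaled] at h
    exact (mul_eq_zero.1 h).resolve_left hc
  · have h := hy x
    rw [polarBilin_apply_apply, polar_scaled] at h
    exact (mul_eq_zero.1 h).resolve_left hc

/-- The projective reflections as a map of the norm-one vectors. -/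
structure ProjMap (Q : QuadraticForm (ZMod 3) (Fin n → ZMod 3)) (c : ZMod 3)
    (q : (Fin n → ZMod 3) → PR Q c) : Prop where
  mem : ∀ v, One (c • Q) v → q v ∈ PRset Q c
  surj : ∀ y ∈ PRset Q c, ∃ v, One (c • Q) v ∧ q v = y
  eq_iff : ∀ u v, One (c • Q) u → One (c • Q) v → (q u = q v ↔ Pm u v)
  comm : ∀ u v, One (c • Q) u → One (c • Q) v →
    (Commute (q u) (q v) ↔ polar (c • Q) u v = 0 ∨ Pm u v)
  conj : ∀ u v, One (c • Q) u → One (c • Q) v → q u * q v * q u = q (rfl' (c • Q) u v)
  group : IsThreeTranspositionGroup (PRset Q c)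
  center : Subgroup.center (PR Q c) = ⊥

theorem exists_minus_perp {V : Type*} [AddCommGroup V] [Module (ZMod 3) V]
    {Q : QuadraticForm (ZMod 3) V} (hS : Sp Q) {u v : V} (hu : One Q u) (hv : One Q v)
    (huv : polar Q u v = 0) : ∃ s, Q s = -1 ∧ polar Q s u = 0 ∧ polar Q s v = 0 := by
  have := hS.fin
  have hp : ∀ i j : Fin 2, i ≠ j → polar Q (![u, v] i) (![u, v] j) = 0 := fun i j hij => by
    fin_cases i <;> fin_cases j
    all_goals first
      | exact absurd rfl hij
      | exact huv
      | (rw [p_comm]; exact huv)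
  have h0 : ∀ i : Fin 2, Q (![u, v] i) ≠ 0 := fun i => by
    fin_cases i
    · show Q u ≠ 0; rw [hu]; exact one_ne_zero
    · show Q v ≠ 0; rw [hv]; exact one_ne_zero
  have := hS.dim
  obtain ⟨t, ht, ht0⟩ := Cfsg.Agent.S5357.exists_aniso hS.nd _ (by omega) h0 hp
  rcases z3_cases (Q t) with h | h | h
  · exact absurd h ht0
  swap
  · exact ⟨t, h, ht 0, ht 1⟩
  have ht0' : polar Q t u = 0 := ht 0
  have ht1' : polar Q t v = 0 := ht 1
  obtain ⟨t', ht', ht0''⟩ := Cfsg.Agent.S5357.exists_aniso hS.nd ![u, v, t] (by omega)
    (fun i => by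
      fin_cases i
      exacts [h0 0, h0 1, ht0])
    (fun i j hij => by
      fin_cases i <;> fin_cases j
      all_goals first
        | exact absurd rfl hij
        | exact huv | exact ht0' | exact ht1'
        | (rw [p_comm]; exact huv) | (rw [p_comm]; exact ht0') | (rw [p_comm]; exact ht1'))
  rcases z3_cases (Q t') with h' | h' | h'
  · exact absurd h' ht0''
  swap
  · exact ⟨t', h', ht' 0, ht' 1⟩
  have h12 : polar Q t' t = 0 := ht' 2
  have a : polar Q t' u = 0 := ht' 0
  have b : polar Q t' v = 0 := ht' 1
  refine ⟨t + t', ?_, by rw [polar_add_left, ht0', a, add_zero],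
    by rw [polar_add_left, ht1', b, add_zero]⟩
  rw [q_add, h, h', p_comm, h12]
  decide

theorem exists_projMap (hQ : (polarBilin Q).Nondegenerate) (hn : 5 ≤ n) (hc : c ≠ 0) :
    ∃ q, ProjMap Q c q := by
  classical
  have hS := sp_scaled hQ hn hc
  have := hS.fin
  have hcc : c * c = 1 := z3_sq hc
  have hone : ∀ {v}, One (c • Q) v ↔ Q v = c := fun {v} => by
    show c * Q v = 1 ↔ _
    refine ⟨fun h => ?_, fun h => by rw [h, hcc]⟩
    linear_combination c * h - Q v * hcc
  set R := Cfsg.reflectionSubgroup (⇑Q) c
  let act : R → (Fin n → ZMod 3) → (Fin n → ZMod 3) := fun g x => g.1.1.1.mulVec x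
  have act_mul : ∀ (a b : R) x, act (a * b) x = act a (act b x) := fun a b x => by
    simp only [act, Subgroup.coe_mul, Units.val_mul, Matrix.mulVec_mulVec]
  have act_one : ∀ x, act 1 x = x := fun x => by
    simp only [act, OneMemClass.coe_one, Units.val_one, Matrix.one_mulVec]
  have ext : ∀ a b : R, (∀ x, act a x = act b x) → a = b :=
    fun a b h => Subtype.ext (Subtype.ext (Units.ext (ThreeTrans.eq_of_mulVec h)))
  have act_iso : ∀ (g : R) x, Q (act g x) = Q x := fun g x => Quad.mem_isometryGroup_iff.1 g.1.2 x
  have act_add : ∀ (g : R) x y, act g (x + y) = act g x + act g y := fun g x y =>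
    Matrix.mulVec_add _ _ _
  have act_smul : ∀ (g : R) (a : ZMod 3) x, act g (a • x) = a • act g x := fun g a x =>
    Matrix.mulVec_smul _ _ _
  have act_pol : ∀ (g : R) x y, polar (c • Q) (act g x) (act g y) = polar (c • Q) x y := fun g x y => by
    simp only [polar, smul_apply, ← act_add, act_iso]
  have hex : ∀ v, One (c • Q) v →
      ∃ T : R, T.1 ∈ Cfsg.reflectionsOfNorm (⇑Q) c ∧ ∀ x, act T x = rfl' (c • Q) v x := by
    intro v hv
    have hv' := hone.1 hv
    have h0 : Q v ≠ 0 := by rw [hv']; exact hc
    set g := (Quad.oEquiv Q).symm ⟨_, Quad.refl_mem h0⟩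
    have hg : ∀ x, g.1.1.mulVec x = rfl' (c • Q) v x := fun x => by
      rw [← Quad.oEquiv_apply, MulEquiv.apply_symm_apply, Quad.refl_apply, hv', rfl', polar_scaled,
        div_eq_mul_inv, mul_comm, inv_eq_of_mul_eq_one_right hcc]
    have hm : g.1.1 = Cfsg.reflectionMatrix (⇑Q) v := ThreeTrans.eq_of_mulVec fun x => by
      rw [hg, Quad.reflectionMatrix_mulVec, hv', rfl', polar_scaled, div_eq_mul_inv,
        inv_eq_of_mul_eq_one_right hcc, mul_comm c]
    exact ⟨⟨g, Subgroup.subset_closure ⟨v, hv', hm⟩⟩, ⟨v, hv', hm⟩, hg⟩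
  choose T hTmem hTact using hex
  have hTsurj : ∀ g : R, g.1 ∈ Cfsg.reflectionsOfNorm (⇑Q) c → ∃ v hv, T v hv = g := by
    rintro g ⟨v, hv, hg⟩
    refine ⟨v, hone.2 hv, ext _ _ fun x => ?_⟩
    rw [hTact]
    show _ = g.1.1.1.mulVec x
    rw [hg, Quad.reflectionMatrix_mulVec, hv, rfl', polar_scaled, div_eq_mul_inv,
      inv_eq_of_mul_eq_one_right hcc, mul_comm c]
  have hT2 : ∀ v hv, T v hv * T v hv = 1 := fun v hv => ext _ _ fun x => by
    rw [act_mul, hTact, hTact, rfl'_rfl' hv, act_one]
  have hconjT : ∀ (g : R) v hv (hv' : One (c • Q) (act g v)),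
      g * T v hv * g⁻¹ = T (act g v) hv' := by
    intro g v hv hv'
    refine ext _ _ fun x => ?_
    have hx : act g (act g⁻¹ x) = x := by rw [← act_mul, mul_inv_cancel, act_one]
    rw [act_mul, act_mul, hTact, hTact, rfl', rfl', ← act_pol g (act g⁻¹ x) v, hx, sub_eq_add_neg,
      ← neg_smul, act_add, act_smul, hx, neg_smul, ← sub_eq_add_neg]
  have hact_one : ∀ (g : R) v, One (c • Q) v → One (c • Q) (act g v) := fun g v hv =>
    hone.2 ((act_iso g v).trans (hone.1 hv))
  have hgen := (ThreeTrans.class_toGroup (Cfsg.Agent.S5357.result n hn Q hQ c hc))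
  -- a centraliser of the reflections is scalar, hence central
  have hscal : ∀ g : R, (∀ v, One (c • Q) v → Pm (act g v) v) → g ∈ Subgroup.center R := by
    intro g hg
    obtain ⟨e, he⟩ : ∃ e : ZMod 3, ∀ v, One (c • Q) v → act g v = e • v := by
      have hpm : ∀ v, One (c • Q) v → ∃ e : ZMod 3, e ≠ 0 ∧ act g v = e • v := fun v hv => by
        rcases hg v hv with h | h
        · exact ⟨1, one_ne_zero, by rw [h, one_smul]⟩
        · exact ⟨-1, by decide, by rw [h, neg_smul, one_smul]⟩
      have hadj : ∀ u v, One (c • Q) u → One (c • Q) v → polar (c • Q) u v ≠ 0 → ∀ e : ZMod 3,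
          act g u = e • u → act g v = e • v := by
        intro u v hu hv huv e he
        obtain ⟨e', he'0, he'⟩ := hpm v hv
        have h1 := act_pol g u v
        rw [he, he', p_smul_left, p_smul_right, ← mul_assoc] at h1
        have h2 : e * e' = 1 := mul_right_cancel₀ huv (by rw [h1, one_mul])
        have hne : e ≠ 0 := fun h0 => by
          rw [h0, zero_mul] at h2
          exact zero_ne_one h2
        have h3 : e' = e := by linear_combination (-e') * z3_sq hne + e * h2
        rw [he', h3]
      obtain ⟨u, hu, -⟩ := exists_one_polar hS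
        (t := (fun _ => 1 : Fin n → ZMod 3))
        fun h => one_ne_zero (congrFun h ⟨0, by omega⟩)
      obtain ⟨e, -, he⟩ := hpm u hu
      refine ⟨e, fun v hv => ?_⟩
      by_cases huv : polar (c • Q) u v = 0
      · obtain ⟨s, hs, hsu, hsv⟩ := exists_minus_perp hS hu hv huv
        have ht : One (c • Q) (u + v + s) := by
          rw [One, q_add, q_add, hu, hv, hs, huv, polar_add_left, p_comm u s, p_comm v s, hsu, hsv]
          decide
        have h1 : polar (c • Q) u (u + v + s) = 2 := by
          rw [polar_add_right, polar_add_right, p_self_one hu, huv, p_comm u s, hsu]; rfl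
        have h2 : polar (c • Q) (u + v + s) v = 2 := by
          rw [polar_add_left, polar_add_left, p_self_one hv, huv, hsv]; rfl
        exact hadj _ v ht hv (by rw [h2]; decide) e (hadj u _ hu ht (by rw [h1]; decide) e he)
      · exact hadj u v hu hv huv e he
    have hee : ∀ v, One (c • Q) v → e * e = 1 := fun v hv => by
      have h1 := act_pol g v v
      rw [he v hv, p_smul_left, p_smul_right, ← mul_assoc, p_self_one hv] at h1
      exact mul_right_cancel₀ (show (2 : ZMod 3) ≠ 0 by decide) (by rw [h1, one_mul])
    have hall : ∀ x, act g x = e • x := fun x => by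
      refine sub_eq_zero.1 (eq_zero_of_ones hS fun v hv => ?_)
      have h1 := act_pol g v x
      rw [he v hv, p_smul_left] at h1
      rw [polar_sub_right, p_smul_right]
      linear_combination e * h1 - (polar (c • Q) v (act g x)) * hee v hv
    rw [Subgroup.mem_center_iff]
    intro h
    refine ext _ _ fun x => ?_
    rw [act_mul, act_mul, hall, hall, act_smul]
  have hTinv : ∀ v hv, (T v hv)⁻¹ = T v hv := fun v hv => inv_eq_of_mul_eq_one_right (hT2 v hv)
  have hTpm : ∀ u v hu hv, T u hu = T v hv → Pm u v := by
    intro u v hu hv he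
    have h1 : rfl' (c • Q) u u = rfl' (c • Q) v u := by rw [← hTact u hu, ← hTact v hv, he]
    rw [rfl'_self hu, rfl'] at h1
    set b := polar (c • Q) u v
    have h2 : u = (-b) • v := by
      have h3 : (3 : ZMod 3) = 0 := rfl
      have h4 : (2 : ZMod 3) • u = b • v := by
        rw [two_smul]
        calc u + u = u - -u := (sub_neg_eq_add u u).symm
          _ = b • v := by rw [h1, sub_sub_cancel]
      calc u = ((2 : ZMod 3) * 2) • u := by rw [show ((2 : ZMod 3) * 2) = 1 by decide, one_smul]
        _ = (2 : ZMod 3) • ((2 : ZMod 3) • u) := mul_smul _ _ _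
        _ = (-b) • v := by rw [h4, smul_smul, show (2 : ZMod 3) * b = -b by linear_combination b * h3]
    rcases z3_cases b with hb | hb | hb
    · rw [hb, neg_zero, zero_smul] at h2; exact absurd h2 (one_ne_zero' hu)
    · rw [hb, neg_smul, one_smul] at h2; exact Or.inr h2
    · rw [hb, neg_neg, one_smul] at h2; exact Or.inl h2
  have hTneg : ∀ u hu, T (-u) (One.neg hu) = T u hu := fun u hu => ext _ _ fun x => by
    rw [hTact, hTact, rfl', rfl', polar_neg_right, smul_neg, neg_smul, neg_neg]
  have hcen : ∀ g : R, g ∈ Subgroup.center R → ∀ v, One (c • Q) v → Pm (act g v) v := by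
    intro g hg v hv
    refine hTpm _ _ (hact_one g v hv) hv ?_
    rw [← hconjT g v hv, ← Subgroup.mem_center_iff.1 hg (T v hv), mul_inv_cancel_right]
  let q : (Fin n → ZMod 3) → PR Q c := fun v =>
    if hv : One (c • Q) v then (T v hv : PR Q c) else 1
  have hq : ∀ {v} (hv : One (c • Q) v), q v = (T v hv : PR Q c) := fun hv => dif_pos hv
  have hqeq : ∀ u v, One (c • Q) u → One (c • Q) v → (q u = q v ↔ Pm u v) := by
    intro u v hu hv
    constructor
    · intro he
      rw [hq hu, hq hv, QuotientGroup.eq, hTinv] at he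
      have hpm : ∀ w, One (c • Q) w → Pm (act (T u hu * T v hv) w) w := hcen _ he
      by_contra hne
      by_cases hb : polar (c • Q) v u = 0
      · obtain ⟨s, hs, hsu, hsv⟩ := exists_minus_perp hS hu hv (by rw [p_comm]; exact hb)
        -- move `u + v + s`
        have ht : One (c • Q) (u + v + s) := by
          rw [One, q_add, q_add, hu, hv, hs, p_comm u v, hb, polar_add_left, p_comm u s,
            p_comm v s, hsu, hsv]
          decide
        have hm := hpm _ ht
        rw [act_mul, hTact, hTact] at hm
        have e1 : rfl' (c • Q) v (u + v + s) = u + -v + s := by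
          rw [rfl', polar_add_left, polar_add_left, p_comm u v, hb, p_self_one hv, hsv, zero_add,
            add_zero, show (2 : ZMod 3) = -1 from rfl]
          have h3 : (3 : ZMod 3) • v = 0 := by rw [show (3 : ZMod 3) = 0 from rfl, zero_smul]
          calc u + v + s - (-1 : ZMod 3) • v = u + -v + s + (3 : ZMod 3) • v := by module
            _ = u + -v + s := by rw [h3, add_zero]
        have e2 : rfl' (c • Q) u (u + -v + s) = -u + -v + s := by
          rw [rfl', polar_add_left, polar_add_left, polar_neg_left, hb, p_self_one hu, hsu, neg_zero,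
            add_zero, add_zero, two_smul]
          abel
        rw [e1, e2] at hm
        rcases hm with h | h
        · have h1 := congrArg (fun y => polar (c • Q) y u) h
          simp only [polar_add_left, polar_neg_left, p_self_one hu, hb, hsu, add_zero, neg_zero] at h1
          exact absurd h1 (by decide)
        · have h1 := congrArg (fun y => polar (c • Q) y s) h
          simp only [polar_add_left, polar_neg_left, p_comm u s, p_comm v s, hsu, hsv, p_self, hs,
            neg_zero, zero_add] at h1
          exact absurd h1 (by decide)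
      · have hm := hpm v hv
        rw [act_mul, hTact, hTact, rfl'_self hv, rfl', polar_neg_left] at hm
        rw [neg_smul, sub_neg_eq_add] at hm
        rcases hm with h | h
        · refine hne ?_
          have h4 : v = (-polar (c • Q) v u) • u := by
            calc v = ((2 : ZMod 3) * 2) • v := by
                  rw [show ((2 : ZMod 3) * 2) = 1 by decide, one_smul]
              _ = (2 : ZMod 3) • (v + v) := by rw [mul_smul, two_smul (ZMod 3) v]
              _ = (2 : ZMod 3) • (polar (c • Q) v u • u) := by
                congr 1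
                nth_rw 2 [← h]
                abel
              _ = _ := by
                rw [smul_smul]
                congr 1
                have hz : ∀ a : ZMod 3, 2 * a = -a := by decide
                exact hz _
          rcases z3_cases (polar (c • Q) v u) with h0 | h0 | h0
          · exact absurd h0 hb
          · rw [h0, neg_smul, one_smul] at h4
            exact Or.inr (by rw [h4, neg_neg])
          · rw [h0, neg_neg, one_smul] at h4
            exact Or.inl h4.symm
        · rw [add_eq_left, smul_eq_zero] at h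
          exact absurd (h.resolve_left hb) (one_ne_zero' hu)
    · rintro (rfl | rfl)
      · rfl
      · rw [hq hu, hq hv]
        exact congrArg _ (hTneg v hv)
  have hqconj : ∀ u v, One (c • Q) u → One (c • Q) v →
      q u * q v * q u = q (rfl' (c • Q) u v) := by
    intro u v hu hv
    have h1 : One (c • Q) (rfl' (c • Q) u v) := (q_rfl' hu v).trans hv
    rw [hq hu, hq hv, hq h1, ← QuotientGroup.mk_mul, ← QuotientGroup.mk_mul]
    congr 1
    refine ext _ _ fun x => ?_
    rw [act_mul, act_mul, hTact, hTact, hTact, hTact]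
    simp only [rfl']
    have e : polar (c • Q) (x - polar (c • Q) x u • u) v =
        polar (c • Q) x v - polar (c • Q) x u * polar (c • Q) u v := by
      rw [polar_sub_left, p_smul_left]
    rw [e, polar_sub_left, polar_sub_left, p_smul_left, p_smul_left, p_self_one hu, polar_sub_right,
      p_smul_right, p_comm v u]
    have h3 : (3 : ZMod 3) = 0 := rfl
    match_scalars <;> ring
  have hqmem : ∀ v, One (c • Q) v → q v ∈ PRset Q c := fun v hv => by
    rw [hq hv]; exact ⟨T v hv, hTmem v hv, rfl⟩
  have hqsurj : ∀ y ∈ PRset Q c, ∃ v, One (c • Q) v ∧ q v = y := by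
    rintro - ⟨g, hg, rfl⟩
    obtain ⟨v, hv, rfl⟩ := hTsurj g hg
    exact ⟨v, hv, hq hv⟩
  have hq2 : ∀ v, One (c • Q) v → q v * q v = 1 := fun v hv => by
    rw [hq hv, ← QuotientGroup.mk_mul, hT2, QuotientGroup.mk_one]
  have hqcomm : ∀ u v, One (c • Q) u → One (c • Q) v →
      (Commute (q u) (q v) ↔ polar (c • Q) u v = 0 ∨ Pm u v) := by
    intro u v hu hv
    have h1 : One (c • Q) (rfl' (c • Q) u v) := (q_rfl' hu v).trans hv
    constructor
    · intro h
      have h2 : q (rfl' (c • Q) u v) = q v := by
        rw [← hqconj u v hu hv, h.eq, mul_assoc, hq2 u hu, mul_one]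
      rcases (hqeq _ _ h1 hv).1 h2 with h3 | h3
      · rw [rfl', sub_eq_self, smul_eq_zero] at h3
        exact Or.inl (by rw [p_comm]; exact h3.resolve_right (one_ne_zero' hu))
      · by_cases hb : polar (c • Q) v u = 0
        · exact Or.inl (by rw [p_comm]; exact hb)
        · refine Or.inr ((hqeq u v hu hv).1 ?_)
          rw [hq hu, hq hv]
          refine congrArg _ (ext _ _ fun x => ?_)
          rw [rfl'] at h3
          have h3' : v = (-polar (c • Q) v u) • u := by
            have e : (2 : ZMod 3) • v = polar (c • Q) v u • u := by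
              rw [two_smul]
              calc v + v = v - -v := (sub_neg_eq_add v v).symm
                _ = polar (c • Q) v u • u := by rw [← h3, sub_sub_cancel]
            calc v = ((2 : ZMod 3) * 2) • v := by rw [show ((2 : ZMod 3) * 2) = 1 by decide, one_smul]
              _ = (2 : ZMod 3) • ((2 : ZMod 3) • v) := mul_smul _ _ _
              _ = _ := by
                rw [e, smul_smul]
                congr 1
                have hz : ∀ a : ZMod 3, 2 * a = -a := by decide
                exact hz _
          rw [hTact, hTact, rfl', rfl']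
          conv_rhs => rw [h3']
          rw [p_smul_right, smul_smul, mul_comm (-polar (c • Q) v u) (polar (c • Q) x u), mul_assoc,
            neg_mul_neg, z3_sq hb, mul_one]
    · intro h
      have h2 : q u * q v * q u = q v := by
        rw [hqconj u v hu hv]
        refine (hqeq _ _ h1 hv).2 ?_
        rcases h with h | rfl | rfl
        · exact Or.inl (rfl'_orth (by rw [p_comm]; exact h))
        · exact Or.inr (rfl'_self hu)
        · refine Or.inr ?_
          rw [rfl', polar_neg_right, p_self_one hv, show -(2 : ZMod 3) = 1 from rfl, one_smul,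
            sub_neg_eq_add]
          have h3 : (3 : ZMod 3) • v = 0 := by rw [show (3 : ZMod 3) = 0 from rfl, zero_smul]
          calc v + v = -v + (3 : ZMod 3) • v := by module
            _ = -v := by rw [h3, add_zero]
      calc q u * q v = q u * q v * q u * q u := by rw [mul_assoc _ (q u) (q u), hq2 u hu, mul_one]
        _ = q v * q u := by rw [h2]
  refine ⟨q, hqmem, hqsurj, hqeq, hqcomm, hqconj, ?_, ?_⟩
  · -- a class of 3-transpositions
    obtain ⟨⟨h2, h3⟩, hcl, hcl'⟩ := hgen
    refine ⟨⟨?_, ?_⟩, ?_, ?_⟩
    · rintro - ⟨g, hg, rfl⟩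
      obtain ⟨v, hv, rfl⟩ := hTsurj g hg
      refine orderOf_eq_prime (by rw [_root_.sq, ← hq hv]; exact hq2 v hv) fun h1 => ?_
      have h3 := hqeq v v hv hv
      rw [← hq hv] at h1
      -- then it commutes with a reflection it moves
      obtain ⟨t, ht, hnp, htv⟩ : ∃ t, One (c • Q) t ∧ ¬ Pm v t ∧ polar (c • Q) v t ≠ 0 := by
        obtain ⟨w, -, hwv⟩ := exists_one_polar hS (one_ne_zero' hv)
        obtain ⟨u, hu, huv⟩ : ∃ u, One (c • Q) u ∧ polar (c • Q) u v = 0 := by
          obtain ⟨u, hu, hup⟩ := exists_one_perp hS ![v] (by have := hS.dim; omega)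
            (fun i => by fin_cases i; show (c • Q) v ≠ 0; rw [hv]; exact one_ne_zero)
            (fun i j h => absurd (Subsingleton.elim i j) h)
          exact ⟨u, hu, hup 0⟩
        obtain ⟨s, hs, hsv, hsu⟩ := exists_minus_perp hS hv hu (by rw [p_comm]; exact huv)
        refine ⟨v + u + s, ?_, ?_, ?_⟩
        · rw [One, q_add, q_add, hv, hu, hs, p_comm v u, huv, polar_add_left, p_comm v s,
            p_comm u s, hsv, hsu]
          decide
        · intro hp
          have h4 := (pm_polar_zero hp u).1 huv
          rw [polar_add_right, polar_add_right, huv, p_self_one hu, p_comm u s, hsu] at h4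
          exact absurd h4 (by decide)
        · rw [polar_add_right, polar_add_right, p_self_one hv, p_comm v u, huv, p_comm v s, hsv]
          decide
      rcases (hqcomm v t hv ht).1 (by rw [h1]; exact Commute.one_left _) with h4 | h4
      exacts [htv h4, hnp h4]
    · rintro - ⟨g, hg, rfl⟩ - ⟨g', hg', rfl⟩
      rw [← QuotientGroup.mk_mul, ← QuotientGroup.mk_pow, ← QuotientGroup.mk_pow]
      rcases h3 g hg g' hg' with h | h
      · exact Or.inl (by rw [h, QuotientGroup.mk_one])
      · exact Or.inr (by rw [h, QuotientGroup.mk_one])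
    · intro y z hz
      obtain ⟨g, hg, rfl⟩ := hz
      obtain ⟨k, rfl⟩ := QuotientGroup.mk_surjective y
      exact ⟨k * g * k⁻¹, hcl k g hg, rfl⟩
    · have h := MonoidHom.map_closure (QuotientGroup.mk' (Subgroup.center R))
        {g : R | g.1 ∈ Cfsg.reflectionsOfNorm (⇑Q) c}
      rw [hcl', Subgroup.map_top_of_surjective _ (QuotientGroup.mk'_surjective _)] at h
      exact h.symm
  · rw [eq_bot_iff]
    intro y hy
    obtain ⟨g, rfl⟩ := QuotientGroup.mk_surjective y
    rw [Subgroup.mem_bot, QuotientGroup.eq_one_iff]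
    refine hscal g fun v hv => (hqeq _ v (hact_one g v hv) hv).1 ?_
    rw [hq hv, hq (hact_one g v hv), ← hconjT g v hv, QuotientGroup.mk_mul, QuotientGroup.mk_mul,
      ← Subgroup.mem_center_iff.1 hy, QuotientGroup.mk_inv, mul_inv_cancel_right]

end Cfsg.Agent.FischerThm.Refl
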