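import Cfsg.Agent.FischerThm.Refl.Bij
import Cfsg.Agent.FischerThm.Refl.Proj
import Cfsg.Agent.FischerThm.Local.Recognize

/-!
# Reflection groups below give reflection groups of one more dimension
-/

set_option autoImplicit false

namespace Cfsg.Agent.FischerThm.Refl

open Module QuadraticMap Cfsg
open Cfsg.Agent.ThreeTrans (dperp class_conj)

/-- Coordinates for one more dimension. -/
def lastSplit (n : ℕ) : (Fin (n + 1) → ZMod 3) ≃ₗ[ZMod 3] (Fin n → ZMod 3) × ZMod 3 where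
  toFun a := (Fin.init a, a (Fin.last n))
  map_add' _ _ := rfl
  map_smul' _ _ := rfl
  invFun v := Fin.snoc v.1 v.2
  left_inv a := Fin.snoc_init_self a
  right_inv v := by simp

universe u

/-- A reflection group below gives a reflection group of one more dimension. -/
theorem refl {G : Type u} [Group G] [Finite G] {D : Set G} {d : G} {n : ℕ} (S : Step D d)
    (hn : 5 ≤ n) (h : ReflAt (lowSet D d) n) : ReflAt D (n + 1) := by
  classical
  obtain ⟨Q, hQ, c, hc, e, he⟩ := h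
  have he' : e '' lowSet D d = PRset Q c := he
  obtain ⟨φ, C⟩ := S.exists_chart ⟨e, he'⟩
  obtain ⟨q, hq⟩ := exists_projMap hQ hn hc
  set Q₁ := c • Q
  have hS := sp_scaled hQ hn hc
  -- the members commuting with `d` as vectors
  let p : (Fin n → ZMod 3) → G := fun v => Function.invFunOn φ (dperp D d) (q v)
  have hp : ∀ v, One Q₁ v → p v ∈ dperp D d ∧ φ (p v) = q v := fun v hv =>
    ⟨Function.invFunOn_mem (C.bij.surjOn (hq.mem v hv)),
      Function.invFunOn_eq (C.bij.surjOn (hq.mem v hv))⟩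
  have hM : Model D d Q₁ p := by
    refine ⟨S.mem, fun v hv => (hp v hv).1, fun y hy => ?_, fun u v hu hv => ?_, fun u v hu hv => ?_,
      fun u v hu hv => ?_⟩
    · obtain ⟨v, hv, hvy⟩ := hq.surj (φ y) (C.bij.mapsTo hy)
      exact ⟨v, hv, C.bij.injOn (hp v hv).1 hy ((hp v hv).2.trans hvy)⟩
    · rw [← hq.eq_iff u v hu hv]
      exact ⟨fun h => by rw [← (hp u hu).2, ← (hp v hv).2, h], fun h => C.bij.injOn (hp u hu).1
        (hp v hv).1 (by rw [(hp u hu).2, (hp v hv).2, h])⟩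
    · rw [← hq.comm u v hu hv, ← C.comm _ (hp u hu).1 _ (hp v hv).1, (hp u hu).2, (hp v hv).2]
    · have h1 : One Q₁ (rfl' Q₁ u v) := (q_rfl' hu v).trans hv
      have hmem : p u * p v * p u ∈ dperp D d :=
        (dperp_closed S.group d) _ (hp u hu).1 _ (hp v hv).1
      refine C.bij.injOn hmem (hp _ h1).1 ?_
      rw [C.conj _ (hp u hu).1 _ (hp v hv).1, (hp u hu).2, (hp v hv).2, (hp _ h1).2]
      exact hq.conj u v hu hv
  -- the whole class
  obtain ⟨a, ha1, ha2, ha3, ha4, ha5⟩ := exists_aside_map S.toHyp hM hS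
  obtain ⟨f, hf1, hf2, hf3, hf4⟩ := exists_bij S.toHyp hM hS ⟨ha1, ha2, ha3, ha4, ha5⟩
  set L := lastSplit n
  let Q₂ : QuadraticForm (ZMod 3) (Fin (n + 1) → ZMod 3) := (big Q₁).comp L.toLinearMap
  have hpol : ∀ x y, polar Q₂ x y = polar (big Q₁) (L x) (L y) := fun x y => by
    simp only [polar, Q₂, QuadraticMap.comp_apply, LinearEquiv.coe_coe, map_add]
  have hQ₂ : (polarBilin Q₂).Nondegenerate := by
    have key : ∀ x, (∀ y, polar Q₂ x y = 0) → x = 0 := by
      intro x hx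
      refine L.injective (Prod.ext ?_ ?_)
      · rw [map_zero]
        refine hS.nd.1 _ fun v => ?_
        have h1 := hx (L.symm (v, 0))
        rw [hpol, L.apply_symm_apply, polar_big, mul_zero, mul_zero, add_zero] at h1
        exact h1
      · rw [map_zero]
        have h1 := hx (L.symm (0, 1))
        rw [hpol, L.apply_symm_apply, polar_big, p_zero_right, zero_add, mul_one] at h1
        exact (mul_eq_zero.1 h1).resolve_left (by decide)
    exact ⟨fun x hx => key x hx, fun y hy => key y fun x => by rw [p_comm]; exact hy x⟩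
  refine ⟨Q₂, hQ₂, 1, one_ne_zero, ?_⟩
  obtain ⟨q₂, hq₂⟩ := exists_projMap (c := 1) hQ₂ (by omega) one_ne_zero
  have hone : ∀ x, One ((1 : ZMod 3) • Q₂) x ↔ One (big Q₁) (L x) := fun x => by
    simp [One, Q₂]
  have hrfl : ∀ u x, L (rfl' ((1 : ZMod 3) • Q₂) u x) = rfl' (big Q₁) (L u) (L x) := fun u x => by
    rw [rfl', rfl', map_sub, map_smul, polar_scaled, one_mul, hpol]
  have hpm : ∀ u x, Pm (L u) (L x) ↔ Pm u x := fun u x => by
    unfold Pm
    rw [← map_neg, L.injective.eq_iff, L.injective.eq_iff]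
  let σ : PR Q₂ 1 → G := fun y => if hy : y ∈ PRset Q₂ 1 then f (L (hq₂.surj y hy).choose) else 1
  have hσ : ∀ x, One ((1 : ZMod 3) • Q₂) x → σ (q₂ x) = f (L x) := fun x hx => by
    simp only [σ, dif_pos (hq₂.mem x hx)]
    obtain ⟨h1, h2⟩ := (hq₂.surj _ (hq₂.mem x hx)).choose_spec
    refine (hf3 _ _ ((hone _).1 h1) ((hone x).1 hx)).2 ((hpm _ _).2 ?_)
    exact (hq₂.eq_iff _ x h1 hx).1 h2
  have hbij : Set.BijOn σ (PRset Q₂ 1) D := by
    refine ⟨fun y hy => ?_, fun y hy y' hy' he2 => ?_, fun x hx => ?_⟩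
    · obtain ⟨v, hv, rfl⟩ := hq₂.surj y hy
      rw [hσ v hv]
      exact hf1 _ ((hone v).1 hv)
    · obtain ⟨v, hv, rfl⟩ := hq₂.surj y hy
      obtain ⟨w, hw, rfl⟩ := hq₂.surj y' hy'
      rw [hσ v hv, hσ w hw, hf3 _ _ ((hone v).1 hv) ((hone w).1 hw), hpm] at he2
      exact (hq₂.eq_iff v w hv hw).2 he2
    · obtain ⟨u, hu, rfl⟩ := hf2 x hx
      have h1 : One ((1 : ZMod 3) • Q₂) (L.symm u) := (hone _).2 (by rwa [L.apply_symm_apply])
      exact ⟨q₂ (L.symm u), hq₂.mem _ h1, by rw [hσ _ h1, L.apply_symm_apply]⟩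
  obtain ⟨ε, hε, -⟩ := equiv_of_bij hq₂.group hq₂.center S.group S.toHyp.center_eq_bot hbij
    (fun y hy y' hy' => by
      obtain ⟨v, hv, rfl⟩ := hq₂.surj y hy
      obtain ⟨w, hw, rfl⟩ := hq₂.surj y' hy'
      rw [hq₂.conj v w hv hw, hσ _ ((q_rfl' hv w).trans hw), hrfl, hσ v hv, hσ w hw]
      exact (hf4 _ _ ((hone v).1 hv) ((hone w).1 hw)).symm)
  refine ⟨ε.symm, ?_⟩
  show ε.symm '' D = PRset Q₂ 1
  rw [← hε, Set.image_image]
  simp

end Cfsg.Agent.FischerThm.Refl
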