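import Mathlib

/-!
# Tables matching two five-dimensional reflection classes with classes in characteristic two

The isotropic points of the four-dimensional Hermitian space over the field with four elements (the
digits `2`, `3` stand for a primitive element and its square) and the norm-one vectors of the
six-dimensional quadratic space of minus type over the field with two elements, each next to the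
reflection matched with it.
-/

set_option autoImplicit false

namespace Cfsg.Agent.FischerThm.Refl

/-- Isotropic points over the field with four elements. -/
def uPts : Fin 45 → Fin 4 → Fin 4 :=
  ![![0, 0, 1, 1], ![0, 0, 1, 2], ![0, 0, 1, 3], ![0, 1, 0, 1],
    ![0, 1, 0, 2], ![0, 1, 0, 3], ![0, 1, 1, 0], ![0, 1, 2, 0],
    ![0, 1, 3, 0], ![1, 0, 0, 1], ![1, 0, 0, 2], ![1, 0, 0, 3],
    ![1, 0, 1, 0], ![1, 0, 2, 0], ![1, 0, 3, 0], ![1, 1, 0, 0],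
    ![1, 1, 1, 1], ![1, 1, 1, 2], ![1, 1, 1, 3], ![1, 1, 2, 1],
    ![1, 1, 2, 2], ![1, 1, 2, 3], ![1, 1, 3, 1], ![1, 1, 3, 2],
    ![1, 1, 3, 3], ![1, 2, 0, 0], ![1, 2, 1, 1], ![1, 2, 1, 2],
    ![1, 2, 1, 3], ![1, 2, 2, 1], ![1, 2, 2, 2], ![1, 2, 2, 3],
    ![1, 2, 3, 1], ![1, 2, 3, 2], ![1, 2, 3, 3], ![1, 3, 0, 0],
    ![1, 3, 1, 1], ![1, 3, 1, 2], ![1, 3, 1, 3], ![1, 3, 2, 1],
    ![1, 3, 2, 2], ![1, 3, 2, 3], ![1, 3, 3, 1], ![1, 3, 3, 2],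
    ![1, 3, 3, 3]]

/-- The reflections matched with them. -/
def uImg : Fin 45 → Fin 5 → ZMod 3 :=
  ![![0, 0, 0, 1, 1], ![0, 1, 1, 0, 1], ![0, 1, 1, 2, 0], ![1, 0, 1, 0, 2],
    ![1, 1, 2, 1, 1], ![1, 2, 0, 2, 0], ![1, 0, 1, 1, 0], ![1, 1, 2, 2, 2],
    ![1, 2, 0, 0, 1], ![1, 0, 2, 0, 1], ![1, 2, 1, 2, 2], ![1, 1, 0, 1, 0],
    ![1, 0, 2, 2, 0], ![1, 2, 1, 1, 1], ![1, 1, 0, 0, 2], ![1, 0, 0, 0, 0],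
    ![0, 1, 0, 0, 0], ![0, 1, 2, 2, 0], ![0, 1, 1, 1, 0], ![0, 1, 2, 0, 1],
    ![0, 0, 0, 1, 2], ![0, 1, 2, 1, 0], ![0, 1, 1, 0, 2], ![0, 1, 2, 0, 2],
    ![0, 0, 1, 0, 0], ![1, 1, 1, 1, 2], ![1, 2, 2, 1, 2], ![1, 0, 1, 0, 1],
    ![1, 1, 0, 2, 0], ![1, 0, 1, 2, 0], ![1, 2, 1, 2, 1], ![1, 1, 1, 2, 2],
    ![1, 1, 0, 0, 1], ![1, 1, 1, 1, 1], ![1, 1, 2, 2, 1], ![1, 2, 2, 2, 1],
    ![1, 1, 2, 1, 2], ![1, 2, 2, 1, 1], ![1, 0, 2, 1, 0], ![1, 2, 2, 2, 2],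
    ![1, 2, 1, 1, 2], ![1, 2, 0, 0, 2], ![1, 0, 2, 0, 2], ![1, 2, 0, 1, 0],
    ![1, 1, 1, 2, 1]]

/-- Norm-one vectors over the field with two elements. -/
def oPts : Fin 36 → Fin 6 → ZMod 2 :=
  ![![0, 0, 0, 0, 0, 1], ![0, 0, 0, 0, 1, 0], ![0, 0, 0, 0, 1, 1], ![0, 0, 0, 1, 0, 1],
    ![0, 0, 0, 1, 1, 0], ![0, 0, 0, 1, 1, 1], ![0, 0, 1, 0, 0, 1], ![0, 0, 1, 0, 1, 0],
    ![0, 0, 1, 0, 1, 1], ![0, 0, 1, 1, 0, 1], ![0, 0, 1, 1, 1, 0], ![0, 0, 1, 1, 1, 1],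
    ![0, 1, 0, 0, 0, 1], ![0, 1, 0, 0, 1, 0], ![0, 1, 0, 0, 1, 1], ![0, 1, 0, 1, 0, 0],
    ![0, 1, 1, 0, 0, 1], ![0, 1, 1, 0, 1, 0], ![0, 1, 1, 0, 1, 1], ![0, 1, 1, 1, 0, 0],
    ![1, 0, 0, 0, 0, 1], ![1, 0, 0, 0, 1, 0], ![1, 0, 0, 0, 1, 1], ![1, 0, 0, 1, 0, 1],
    ![1, 0, 0, 1, 1, 0], ![1, 0, 0, 1, 1, 1], ![1, 0, 1, 0, 0, 0], ![1, 0, 1, 1, 0, 0],
    ![1, 1, 0, 0, 0, 1], ![1, 1, 0, 0, 1, 0], ![1, 1, 0, 0, 1, 1], ![1, 1, 0, 1, 0, 0],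
    ![1, 1, 1, 0, 0, 0], ![1, 1, 1, 1, 0, 1], ![1, 1, 1, 1, 1, 0], ![1, 1, 1, 1, 1, 1]]

/-- The reflections matched with them. -/
def oImg : Fin 36 → Fin 5 → ZMod 3 :=
  ![![0, 0, 0, 1, 0], ![0, 0, 1, 1, 1], ![0, 0, 1, 2, 1], ![0, 0, 1, 0, 0],
    ![0, 0, 1, 1, 2], ![0, 0, 1, 2, 2], ![1, 1, 0, 0, 1], ![1, 1, 2, 1, 0],
    ![1, 1, 2, 2, 0], ![1, 1, 0, 0, 2], ![1, 1, 1, 2, 0], ![1, 1, 1, 1, 0],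
    ![0, 1, 2, 0, 1], ![0, 1, 0, 2, 2], ![0, 1, 0, 1, 2], ![0, 1, 1, 0, 1],
    ![1, 0, 2, 0, 1], ![1, 0, 0, 2, 2], ![1, 0, 0, 1, 2], ![1, 0, 1, 0, 1],
    ![1, 2, 0, 0, 2], ![1, 2, 1, 2, 0], ![1, 2, 1, 1, 0], ![1, 2, 0, 0, 1],
    ![1, 2, 2, 1, 0], ![1, 2, 2, 2, 0], ![1, 0, 0, 0, 0], ![0, 1, 0, 0, 0],
    ![1, 0, 1, 0, 2], ![1, 0, 0, 1, 1], ![1, 0, 0, 2, 1], ![1, 0, 2, 0, 2],
    ![0, 1, 2, 0, 2], ![0, 1, 1, 0, 2], ![0, 1, 0, 1, 1], ![0, 1, 0, 2, 1]]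

end Cfsg.Agent.FischerThm.Refl
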