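import Cfsg.Agent.FischerThm.Refl.Five
import Cfsg.Agent.FischerThm.Refl.Tables
import Cfsg.Agent.FischerThm.Local.Hyp
import Cfsg.Agent.ThreeTrans.OrthClass
import Cfsg.Agent.ThreeTrans.OrthCohom

/-!
# The transvections of the six-dimensional quadratic space of minus type are reflections in five
dimensions
-/

set_option autoImplicit false

namespace Cfsg.Agent.FischerThm.Refl

open Cfsg QuadraticMap Cfsg.Agent.Classical

/-- The quadratic form on flat coordinates. -/
def q2 (v : Fin 6 → ZMod 2) : ZMod 2 := v 0 * v 2 + v 1 * v 3 + (v 4 * v 4 + v 4 * v 5 + v 5 * v 5)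

/-- Its polar form. -/
def b2 (u v : Fin 6 → ZMod 2) : ZMod 2 := q2 (u + v) - q2 u - q2 v

/-- Signature of the reflection side. -/
def sig36 : Fin 5 → ZMod 3 := ![1, 1, 1, 1, -1]

theorem oPts_one : ∀ i, q2 (oPts i) = 1 := by decide +kernel

theorem oPts_surj : ∀ a₀ a₁ a₂ a₃ a₄ a₅ : ZMod 2, q2 ![a₀, a₁, a₂, a₃, a₄, a₅] = 1 →
    ∃ i, oPts i = ![a₀, a₁, a₂, a₃, a₄, a₅] := by decide +kernel

theorem oPts_inj : ∀ i j, oPts i = oPts j → i = j := by decide +kernel

theorem oPts_op : ∀ i j, ∃ k,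
    (rd sig36 (oImg i) (oImg j) = oImg k ∨ rd sig36 (oImg i) (oImg j) = -oImg k) ∧
      ∀ m, oPts j m + b2 (oPts j) (oPts i) * oPts i m = oPts k m := by decide +kernel

theorem oImg_one : ∀ i, qd sig36 (oImg i) = 1 := by decide +kernel

theorem oImg_surj : ∀ b₀ b₁ b₂ b₃ b₄ : ZMod 3, qd sig36 ![b₀, b₁, b₂, b₃, b₄] = 1 →
    ∃ i, oImg i = ![b₀, b₁, b₂, b₃, b₄] ∨ oImg i = -![b₀, b₁, b₂, b₃, b₄] := by decide +kernel

theorem oImg_inj : ∀ i j, oImg i = oImg j ∨ oImg i = -oImg j → i = j := by decide +kernel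

universe u

/-- The six-dimensional orthogonal transvections of minus type are a reflection class in dimension
five. -/
theorem ominusTwoRefl {G : Type u} [Group G] [Finite G] {D : Set G} (hH : Hyp D)
    (h : OMinusAt D 2) : ReflAt D 5 := by
  classical
  obtain ⟨e, he⟩ := h
  obtain ⟨Q, hQ'⟩ : ∃ Q : QuadraticForm (ZMod 2) ((Fin 2 ⊕ Fin 2) ⊕ Fin 2 → ZMod 2),
      (Cfsg.quadFormMinus 2 (ZMod 2) 1 1) = ⇑Q :=
    ⟨ThreeTrans.OrthCohom.qM 2, (ThreeTrans.OrthCohom.qM_coe 2).symm⟩
  revert e he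
  rw [hQ']
  intro e he
  let pack : (Fin 6 → ZMod 2) → ((Fin 2 ⊕ Fin 2) ⊕ Fin 2 → ZMod 2) := fun v =>
    Sum.elim (Sum.elim ![v 0, v 1] ![v 2, v 3]) ![v 4, v 5]
  have hpq : ∀ v, Q (pack v) = q2 v := fun v => by
    rw [← hQ']
    simp [Cfsg.quadFormMinus, pack, q2, Fin.sum_univ_two, pow_two]
  have hadd : ∀ u v, pack (u + v) = pack u + pack v := fun u v => by
    funext m
    rcases m with (m | m) | m <;> fin_cases m <;> rfl
  have hpol : ∀ u v, polar Q (pack u) (pack v) = b2 u v := fun u v => by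
    simp only [polar, b2, ← hadd, hpq]
  have hsmul : ∀ (s : ZMod 2) (v : Fin 6 → ZMod 2), pack (fun m => s * v m) = s • pack v := fun s v => by
    funext m
    rcases m with (m | m) | m <;> fin_cases m <;> rfl
  have hinjp : Function.Injective pack := fun u v huv => by
    funext m
    fin_cases m
    exacts [congrFun huv (.inl (.inl 0)), congrFun huv (.inl (.inl 1)),
      congrFun huv (.inl (.inr 0)), congrFun huv (.inl (.inr 1)), congrFun huv (.inr 0),
      congrFun huv (.inr 1)]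
  have hsurjp : ∀ x, ∃ v, pack v = x := fun x =>
    ⟨![x (.inl (.inl 0)), x (.inl (.inl 1)), x (.inl (.inr 0)), x (.inl (.inr 1)), x (.inr 0),
      x (.inr 1)], by funext m; rcases m with (m | m) | m <;> fin_cases m <;> rfl⟩
  set ε := Quad.oEquiv Q
  have hex : ∀ v, Q v = 1 → ∃ T : ↥(Cfsg.isometryGroup (ZMod 2) ⇑Q),
      ∀ x, T.1.1.mulVec x = x + polar Q x v • v := fun v hv => by
    obtain ⟨t, -, hto, hta⟩ := ThreeTrans.OrthTwo.exists_tv hv
    exact ⟨ε.symm ⟨t, hto⟩, fun x => by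
      rw [← hta, ← Quad.oEquiv_apply, MulEquiv.apply_symm_apply]⟩
  choose T hT using hex
  have hone : ∀ i, Q (pack (oPts i)) = 1 := fun i => (hpq _).trans (oPts_one i)
  let t : Fin 36 → ↥(Cfsg.isometryGroup (ZMod 2) ⇑Q) := fun i => T _ (hone i)
  let a : Fin 36 → G := fun i => e.symm (t i)
  have hne0 : ∀ v : (Fin 2 ⊕ Fin 2) ⊕ Fin 2 → ZMod 2, Q v = 1 → v ≠ 0 := fun v hv h0 => by
    rw [h0, map_zero] at hv
    exact zero_ne_one hv
  have hQn : (polarBilin Q).Nondegenerate := by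
    have hnd : ∀ u : Fin 6 → ZMod 2, (∀ k, b2 u (Pi.single k 1) = 0) → u = 0 := by decide +kernel
    have key : ∀ x, (∀ y, polar Q x y = 0) → x = 0 := fun x hx => by
      obtain ⟨u, rfl⟩ := hsurjp x
      rw [hnd u fun k => by rw [← hpol]; exact hx _]
      funext m
      rcases m with (m | m) | m <;> fin_cases m <;> rfl
    exact ⟨fun x hx => key x hx, fun y hy => key y fun x => by
      rw [polar_comm]; exact hy x⟩
  have hD : ∀ g : ↥(Cfsg.isometryGroup (ZMod 2) ⇑Q), (g.1.1 - 1).rank = 1 ↔ ∃ i, t i = g := by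
    intro g
    constructor
    · intro hg
      obtain ⟨v, φ, hv, hφ, hgv⟩ := ThreeTrans.exists_oneDir_of_rank hg
      obtain ⟨hQv, hφ'⟩ :=
        ThreeTrans.eq_polar_of_isometry hQn (Quad.mem_isometryGroup_iff.1 g.2) hv hφ hgv
      obtain ⟨u, rfl⟩ := hsurjp v
      have hu : u = ![u 0, u 1, u 2, u 3, u 4, u 5] := by funext j; fin_cases j <;> rfl
      obtain ⟨i, hi⟩ := oPts_surj (u 0) (u 1) (u 2) (u 3) (u 4) (u 5) (by rw [← hu, ← hpq]; exact hQv)
      refine ⟨i, Subtype.ext (Units.ext (ThreeTrans.eq_of_mulVec fun x => ?_))⟩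
      show (T _ (hone i)).1.1.mulVec x = _
      rw [hT, hgv x, hφ', hi, ← hu]
    · rintro ⟨i, rfl⟩
      refine ThreeTrans.rank_of_oneDir (φ := (polarBilin Q).flip (pack (oPts i))) (hne0 _ (hone i))
        ?_ (hT _ (hone i))
      by_contra hc
      push Not at hc
      exact hne0 _ (hone i) (hQn.2 _ fun y => (ThreeTrans.OrthTwo.z2 _).resolve_right (hc y))
  have hea : ∀ i, e (a i) = t i := fun i => e.apply_symm_apply _
  refine reflAt_of_table hH.group hH.center_eq_bot a ?_ ?_ ?_ sig36 (by decide) oImg oImg_one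
    oImg_surj oImg_inj ?_
  · intro i
    obtain ⟨x, hx, hx'⟩ : e (a i) ∈ e '' D := by
      rw [he, hea]
      exact (hD _).2 ⟨i, rfl⟩
    rwa [← e.injective hx']
  · intro x hx
    obtain ⟨i, hi⟩ := (hD (e x)).1 (he.le ⟨x, hx, rfl⟩)
    exact ⟨i, e.injective ((hea i).trans hi)⟩
  · intro i j hij
    have h1 : t i = t j := by rw [← hea, ← hea, hij]
    obtain ⟨y, hy⟩ : ∃ y, polar Q y (pack (oPts i)) = 1 := by
      by_contra hc
      push Not at hc
      exact hne0 _ (hone i) (hQn.2 _ fun y => (ThreeTrans.OrthTwo.z2 _).resolve_right (hc y))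
    have h2 : (T _ (hone i)).1.1.mulVec y = (T _ (hone j)).1.1.mulVec y := by
      rw [show T _ (hone i) = T _ (hone j) from h1]
    rw [hT, hT, hy, one_smul, add_right_inj] at h2
    rcases ThreeTrans.OrthTwo.z2 (polar Q y (pack (oPts j))) with h3 | h3
    · rw [h3, zero_smul] at h2
      exact absurd h2 (hne0 _ (hone i))
    · rw [h3, one_smul] at h2
      exact oPts_inj i j (hinjp h2)
  · intro i j
    obtain ⟨k, hr, hk⟩ := oPts_op i j
    refine ⟨k, e.injective ?_, hr⟩
    rw [map_mul, map_mul, hea, hea, hea]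
    refine Subtype.ext (Units.ext (ThreeTrans.eq_of_mulVec fun x => ?_))
    rw [Subgroup.coe_mul, Subgroup.coe_mul, Units.val_mul, Units.val_mul, ← Matrix.mulVec_mulVec,
      ← Matrix.mulVec_mulVec, hT, hT, hT, hT]
    have hk' : pack (oPts k) =
        pack (oPts j) + polar Q (pack (oPts j)) (pack (oPts i)) • pack (oPts i) := by
      rw [hpol, ← hsmul]
      exact (congrArg pack (funext fun m => (hk m).symm)).trans (hadd (oPts j) fun m => b2 (oPts j) (oPts i) * oPts i m)
    rw [hk']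
    simp only [polar_add_left, polar_add_right, polar_smul_left, polar_smul_right, smul_eq_mul,
      ThreeTrans.OrthTwo.polar_self_zero, polar_comm Q (pack (oPts i)) (pack (oPts j))]
    match_scalars <;>
      (generalize polar Q x (pack (oPts i)) = p
       generalize polar Q x (pack (oPts j)) = r
       generalize polar Q (pack (oPts j)) (pack (oPts i)) = c
       revert p r c; decide)

end Cfsg.Agent.FischerThm.Refl
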