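import Cfsg.Agent.FischerThm.Refl.Coord
import Cfsg.Agent.FischerThm.Refl.Tables

/-!
# Checks on the table of isotropic points over the field with four elements
-/

set_option autoImplicit false

namespace Cfsg.Agent.FischerThm.Refl

/-- Addition of digits. -/
def ad : Fin 4 → Fin 4 → Fin 4 :=
  ![![0, 1, 2, 3], ![1, 0, 3, 2], ![2, 3, 0, 1], ![3, 2, 1, 0]]

/-- Multiplication of digits. -/
def mu : Fin 4 → Fin 4 → Fin 4 :=
  ![![0, 0, 0, 0], ![0, 1, 2, 3], ![0, 2, 3, 1], ![0, 3, 1, 2]]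

/-- The Frobenius on digits. -/
def fr : Fin 4 → Fin 4 := ![0, 1, 3, 2]

/-- The Hermitian form on digits. -/
def bu (u v : Fin 4 → Fin 4) : Fin 4 :=
  ad (ad (ad (mu (fr (u 0)) (v 0)) (mu (fr (u 1)) (v 1))) (mu (fr (u 2)) (v 2))) (mu (fr (u 3)) (v 3))

/-- The transvection in `u` on digits. -/
def tu (u x : Fin 4 → Fin 4) : Fin 4 → Fin 4 := fun i => ad (x i) (mu (bu u x) (u i))

theorem uPts_ok : ∀ i, bu (uPts i) (uPts i) = 0 ∧ uPts i ≠ 0 := by decide +kernel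

theorem uPts_surj : ∀ c₀ c₁ c₂ c₃ : Fin 4, bu ![c₀, c₁, c₂, c₃] ![c₀, c₁, c₂, c₃] = 0 →
    ![c₀, c₁, c₂, c₃] ≠ 0 → ∃ i s, s ≠ 0 ∧ ∀ m, ![c₀, c₁, c₂, c₃] m = mu s (uPts i m) := by
  decide +kernel

theorem uPts_sep : ∀ i j, i ≠ j → ∃ k, ∀ s, ∃ m,
    tu (uPts i) (tu (uPts j) (uPts k)) m ≠ mu s (uPts k m) := by
  decide +kernel

theorem uPts_op : ∀ i j, ∃ k,
    (rd sig5 (uImg i) (uImg j) = uImg k ∨ rd sig5 (uImg i) (uImg j) = -uImg k) ∧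
      ∃ s, s ≠ 0 ∧ ∀ m, tu (uPts i) (uPts j) m = mu s (uPts k m) := by
  decide +kernel

theorem uImg_one : ∀ i, qd sig5 (uImg i) = 1 := by decide +kernel

theorem uImg_surj : ∀ b₀ b₁ b₂ b₃ b₄ : ZMod 3, qd sig5 ![b₀, b₁, b₂, b₃, b₄] = 1 →
    ∃ i, uImg i = ![b₀, b₁, b₂, b₃, b₄] ∨ uImg i = -![b₀, b₁, b₂, b₃, b₄] := by
  decide +kernel

theorem uImg_inj : ∀ i j, uImg i = uImg j ∨ uImg i = -uImg j → i = j := by decide +kernel

end Cfsg.Agent.FischerThm.Refl
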