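import Cfsg.Agent.FischerThm.Refl.Five
import Cfsg.Agent.FischerThm.Refl.PsuTable
import Cfsg.Agent.FischerThm.Local.Hyp
import Cfsg.Agent.S1631

/-!
# The transvection images of `PSU(4, 2)` are reflections in five dimensions

The forty-five isotropic points are listed in digits for the field with four elements.
-/

set_option autoImplicit false

namespace Cfsg.Agent.FischerThm.Refl

open Cfsg

universe u

/-- `PSU(4, 2)` with its transvection images is a reflection group in dimension five. -/
theorem psuFourRefl {G : Type u} [Group G] [Finite G] {D : Set G} (hH : Hyp D) (h : PSUAt D 4) :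
    ReflAt D 5 := by
  classical
  obtain ⟨F, _, _, hF, e, he⟩ := h
  obtain ⟨θ, hθq, hθ, -, -⟩ := Classical.exists_powHom (F := F) (q := 2) (by rw [hF]; rfl)
  set B := Classical.hermB 4 θ
  have hB : Classical.Herm.IsHerm B := Classical.hermB_isHerm hθ 4
  set ε := Classical.suEquiv (F := F) 4 hθq
  have : CharP F 2 := charP_of_card_eq_prime_pow (f := 2) (by rw [hF]; rfl)
  have h2 : (2 : F) = 0 := CharP.cast_eq_zero F 2
  have hfix : ∀ a : F, θ a = a → a = 0 ∨ a = 1 := by
    intro a ha
    rw [hθq, sq] at ha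
    rcases eq_or_ne a 0 with h | h
    · exact Or.inl h
    · exact Or.inr ((mul_eq_right₀ h).1 ha)
  -- digits
  obtain ⟨ω, hω0, hω1⟩ : ∃ ω : F, ω ≠ 0 ∧ ω ≠ 1 := by
    by_contra hcon
    push Not at hcon
    have h1 := Finset.card_le_card (s := (Finset.univ : Finset F)) (t := {0, 1}) fun x _ => by
      rcases eq_or_ne x 0 with h | h
      · simp [h]
      · simp [hcon x h]
    rw [Finset.card_univ, hF] at h1
    have h3 : ({0, 1} : Finset F).card ≤ 2 := Finset.card_le_two
    omega
  have hω : ω * ω = ω + 1 := by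
    have h3 : ω * ω * ω = 1 := by
      have := FiniteField.pow_card_sub_one_eq_one ω hω0
      rw [hF] at this
      linear_combination this
    have h4 : (ω - 1) * (ω * ω - (ω + 1)) = 0 := by
      linear_combination h3 + (-(ω * ω) + 1) * h2
    exact sub_eq_zero.1 ((mul_eq_zero.1 h4).resolve_left (sub_ne_zero.2 hω1))
  let ev : Fin 4 → F := ![0, 1, ω, ω + 1]
  have hadd : ∀ a b, ev (ad a b) = ev a + ev b := by
    intro a b
    fin_cases a <;> fin_cases b <;> simp [ev, ad] <;> grind
  have hmul : ∀ a b, ev (mu a b) = ev a * ev b := by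
    intro a b
    fin_cases a <;> fin_cases b <;> simp [ev, mu] <;> grind
  have hfr : ∀ a, ev (fr a) = θ (ev a) := by
    intro a
    rw [hθq]
    fin_cases a <;> simp [ev, fr] <;> grind
  have hev0 : ∀ a, ev a = 0 → a = 0 := by
    intro a
    fin_cases a <;> simp [ev, hω0]
    exact fun hh => hω1 (by linear_combination hh - h2)
  have hevi : Function.Injective ev := fun a b hab => by
    have h0 := hev0 (ad a b) (by rw [hadd, hab]; linear_combination ev b * h2)
    have hz : ∀ a b : Fin 4, ad a b = 0 → a = b := by decide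
    exact hz a b h0
  have hevs : Function.Surjective ev := (Fintype.bijective_iff_injective_and_card ev).2
    ⟨hevi, by rw [Fintype.card_fin, hF]⟩ |>.2
  let vec : (Fin 4 → Fin 4) → (Fin 4 → F) := fun c m => ev (c m)
  have hbu : ∀ c c', ev (bu c c') = B (vec c) (vec c') := fun c c' => by
    rw [Classical.hermB_apply, Fin.sum_univ_four]
    simp only [bu, hadd, hmul, hfr, vec]
  have htu : ∀ c x, vec (tu c x) = vec x + B (vec c) (vec x) • vec c := fun c x => by
    funext m
    simp only [vec, tu, hadd, hmul, hbu, Pi.add_apply, Pi.smul_apply, smul_eq_mul]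
  have hscal : ∀ {s} {c c' : Fin 4 → Fin 4}, (∀ m, c m = mu s (c' m)) → vec c = ev s • vec c' :=
    fun hs => funext fun m => by simp [vec, hs m, hmul]
  have hne : ∀ {c : Fin 4 → Fin 4}, c ≠ 0 → vec c ≠ 0 := fun hc h0 =>
    hc (funext fun m => hev0 _ (congrFun h0 m))
  -- transvections
  have hmulv : ∀ (a b : Cfsg.SU 4 F 2) x,
      (a * b).1.1.mulVec x = a.1.1.mulVec (b.1.1.mulVec x) :=
    fun a b x => by rw [Subgroup.coe_mul, Matrix.SpecialLinearGroup.coe_mul, Matrix.mulVec_mulVec]
  have ext : ∀ a b : Cfsg.SU 4 F 2, (∀ x, a.1.1.mulVec x = b.1.1.mulVec x) → a = b :=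
    fun a b h => Subtype.ext (Subtype.ext (ThreeTrans.eq_of_mulVec h))
  have hone' : (1 : F) + θ 1 = 0 := by rw [map_one, one_add_one_eq_two, h2]
  have hex : ∀ v : Fin 4 → F, B v v = 0 →
      ∃ T : Cfsg.SU 4 F 2, ∀ x, T.1.1.mulVec x = x + B v x • v := fun v hv =>
    ⟨ε.symm ⟨Classical.Herm.tvU hv 1, Classical.Herm.tvU_mem hB hv hone'⟩, fun x => by
      rw [← Classical.suEquiv_apply hθq, MulEquiv.apply_symm_apply]
      show x + ((1 : F) * B v x) • v = _
      rw [one_mul]⟩
  choose T hT using hex
  have hiso : ∀ i, B (vec (uPts i)) (vec (uPts i)) = 0 := fun i => by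
    rw [← hbu, (uPts_ok i).1]
    rfl
  let t : Fin 45 → Cfsg.SU 4 F 2 := fun i => T _ (hiso i)
  have ht2 : ∀ i, t i * t i = 1 := fun i => ext _ _ fun x => by
    rw [hmulv, hT, hT, OneMemClass.coe_one, Matrix.SpecialLinearGroup.coe_one, Matrix.one_mulVec,
      map_add, map_smul, hiso, smul_zero, add_zero]
    calc x + B (vec (uPts i)) x • vec (uPts i) + B (vec (uPts i)) x • vec (uPts i)
        = x + ((2 : F) * B (vec (uPts i)) x) • vec (uPts i) := by module
      _ = x := by rw [h2, zero_mul, zero_smul, add_zero]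
  have hTinv : ∀ v hv, B v v = 0 → (T v hv)⁻¹ = T v hv := fun v hv _ =>
    inv_eq_of_mul_eq_one_right (ext _ _ fun x => by
      rw [hmulv, hT, hT, OneMemClass.coe_one, Matrix.SpecialLinearGroup.coe_one, Matrix.one_mulVec,
        map_add, map_smul, hv, smul_zero, add_zero]
      calc x + B v x • v + B v x • v = x + ((2 : F) * B v x) • v := by module
        _ = x := by rw [h2, zero_mul, zero_smul, add_zero])
  -- conjugating a transvection moves its point
  have hconj : ∀ (g : Cfsg.SU 4 F 2) v hv hv', g * T v hv * g⁻¹ = T (g.1.1.mulVec v) hv' := by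
    intro g v hv hv'
    refine ext _ _ fun x => ?_
    rw [hmulv, hmulv, hT, hT]
    have hg : ∀ y z, B (g.1.1.mulVec y) (g.1.1.mulVec z) = B y z := fun y z => by
      rw [← Classical.suEquiv_apply hθq, ← Classical.suEquiv_apply hθq]
      exact (ε g).2.1 y z
    have hx : g.1.1.mulVec ((g⁻¹).1.1.mulVec x) = x := by
      rw [← hmulv, mul_inv_cancel, OneMemClass.coe_one, Matrix.SpecialLinearGroup.coe_one,
        Matrix.one_mulVec]
    rw [Matrix.mulVec_add, Matrix.mulVec_smul, hx, ← hg v, hx]
  have hTline : ∀ v w hv hw, v ≠ 0 → T v hv = T w hw → ∃ k : F, v = k • w := by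
    intro v w hv hw hv0 hvw
    obtain ⟨y, hy⟩ := Classical.Herm.exists_pairing hB hv0
    have h1 : y + B v y • v = y + B w y • w := by rw [← hT v hv, ← hT w hw, hvw]
    rw [hy, one_smul, add_right_inj] at h1
    exact ⟨_, h1⟩
  have hTscal : ∀ (k : F) w hw hv, k ≠ 0 → T (k • w) hv = T w hw := by
    intro k w hw hv hk
    refine ext _ _ fun x => ?_
    rw [hT, hT, LinearMap.map_smulₛₗ, LinearMap.smul_apply, smul_eq_mul, smul_smul, hθq]
    have h3 : k ^ 2 * k = 1 := by
      have := FiniteField.pow_card_sub_one_eq_one k hk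
      rw [hF] at this
      rw [← this]; ring
    congr 2
    linear_combination (B w x) * h3
  let a : Fin 45 → G := fun i => e.symm (QuotientGroup.mk (t i))
  have hset : e '' D = (QuotientGroup.mk : ↥(Cfsg.SU 4 F 2) → Cfsg.PSU 4 F 2) ''
      {g : ↥(Cfsg.SU 4 F 2) |
        (((g : Matrix.SpecialLinearGroup (Fin 4) F) : Matrix (Fin 4) (Fin 4) F) - 1).rank = 1} := he
  -- the rank-one elements
  have hD : ∀ g : Cfsg.SU 4 F 2, (g.1.1 - 1).rank = 1 ↔ ∃ i, t i = g := by
    intro g
    constructor
    · intro hg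
      obtain ⟨v, φ, hv, ⟨x₀, hx₀⟩, hgv⟩ := ThreeTrans.exists_oneDir_of_rank hg
      have happ : ∀ x, (ε g).1 x = x + φ x • v := fun x => by
        rw [Classical.suEquiv_apply]; exact hgv x
      have hisom : ∀ a b, φ b * B a v + θ (φ a) * B v b + θ (φ a) * φ b * B v v = 0 := by
        intro a b
        have h : B ((ε g).1 a) ((ε g).1 b) = B a b := (ε g).2.1 a b
        rw [happ, happ] at h
        simp only [map_add, map_smulₛₗ, LinearMap.add_apply, LinearMap.smul_apply, smul_eq_mul,
          RingHom.id_apply] at h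
        linear_combination h
      obtain ⟨y₀, hy₀⟩ := Classical.Herm.exists_pairing hB hv
      have hker : ∀ y, φ y = 0 → B v y = 0 := by
        intro y hy
        have h := hisom x₀ y
        rwa [hy, zero_mul, hx₀, map_one, one_mul, zero_add, mul_zero, zero_mul, add_zero] at h
      set c := φ y₀
      have hc : ∀ y, φ y = c * B v y := by
        intro y
        have h := hker (y - φ y • x₀) (by rw [map_sub, map_smul, hx₀, smul_eq_mul, mul_one, sub_self])
        have h' := hker (y₀ - φ y₀ • x₀)
          (by rw [map_sub, map_smul, hx₀, smul_eq_mul, mul_one, sub_self])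
        rw [map_sub, map_smul, sub_eq_zero, smul_eq_mul] at h h'
        rw [hy₀] at h'
        calc φ y = φ y * (φ y₀ * B v x₀) := by rw [← h', mul_one]
          _ = φ y₀ * B v y := by rw [h]; ring
      have hc0 : c ≠ 0 := fun h0 => by rw [hc, h0, zero_mul] at hx₀; exact zero_ne_one hx₀
      let w : Fin 4 → F := fun j => B v (Pi.single j 1)
      have hw : ∀ x, w ⬝ᵥ x = B v x := fun x => by
        conv_rhs => rw [← Finset.univ_sum_single x, map_sum]
        refine Finset.sum_congr rfl fun j _ => ?_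
        show B v (Pi.single j 1) * x j = B v (Pi.single j (x j))
        rw [show (Pi.single j (x j) : Fin 4 → F) = x j • Pi.single j 1 by
          rw [← Pi.single_smul, smul_eq_mul, mul_one], map_smul, smul_eq_mul, mul_comm]
      have hmat : g.1.1 = 1 + Matrix.replicateCol Unit (c • v) * Matrix.replicateRow Unit w := by
        refine ThreeTrans.eq_of_mulVec fun x => ?_
        rw [hgv x, hc, Matrix.add_mulVec, Matrix.one_mulVec, ← Matrix.vecMulVec_eq,
          Matrix.vecMulVec_mulVec, op_smul_eq_smul, hw, smul_smul, mul_comm c]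
      have hv0 : B v v = 0 := by
        have hdet := g.1.2
        rw [hmat, Matrix.det_one_add_replicateCol_mul_replicateRow, add_eq_left, dotProduct_smul, hw,
          smul_eq_mul] at hdet
        exact (mul_eq_zero.1 hdet).resolve_left hc0
      have hc1 : c = 1 := by
        have hcc : c + θ c = 0 := (Classical.isometry_transvection_iff hθ hv hv0 c).1 fun x y => by
          rw [← hc, ← hc, ← happ, ← happ]
          exact (ε g).2.1 x y
        refine (hfix c ?_).resolve_left hc0
        rw [eq_neg_of_add_eq_zero_right hcc, CharTwo.neg_eq]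
      choose c' hc' using fun m => hevs (v m)
      have hvec : vec c' = v := funext hc'
      have hl : c' = ![c' 0, c' 1, c' 2, c' 3] := by funext m; fin_cases m <;> rfl
      obtain ⟨i, s, hs0, hs⟩ := uPts_surj (c' 0) (c' 1) (c' 2) (c' 3)
        (hev0 _ (by rw [← hl, hbu, hvec]; exact hv0))
        (fun h0 => hv (by rw [← hvec, hl, h0]; funext m; rfl))
      rw [← hl] at hs
      have hvs : v = ev s • vec (uPts i) := hvec.symm.trans (hscal hs)
      refine ⟨i, ext _ _ fun x => ?_⟩
      rw [hgv x, hc, hc1, one_mul]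
      subst hvs
      rw [← hT _ hv0, hTscal _ _ (hiso i) hv0 fun h0 => hs0 (hev0 s h0)]
    · rintro ⟨i, rfl⟩
      exact ThreeTrans.rank_of_oneDir (hne (uPts_ok i).2)
        (Classical.Herm.exists_pairing hB (hne (uPts_ok i).2)) (hT _ (hiso i))
  have hea : ∀ i, e (a i) = QuotientGroup.mk (t i) := fun i => e.apply_symm_apply _
  refine reflAt_of_table hH.group hH.center_eq_bot a ?_ ?_ ?_ sig5 (by decide) uImg uImg_one
    uImg_surj uImg_inj ?_
  · intro i
    obtain ⟨x, hx, hx'⟩ : e (a i) ∈ e '' D := by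
      rw [hset, hea]
      exact ⟨t i, (hD _).2 ⟨i, rfl⟩, rfl⟩
    rwa [← e.injective hx']
  · intro x hx
    obtain ⟨g, hg, hg'⟩ : e x ∈ (QuotientGroup.mk : ↥(Cfsg.SU 4 F 2) → Cfsg.PSU 4 F 2) '' _ :=
      by rw [← hset]; exact ⟨x, hx, rfl⟩
    obtain ⟨i, rfl⟩ := (hD g).1 hg
    exact ⟨i, e.injective ((hea i).trans hg')⟩
  · intro i j hij
    by_contra hne'
    have h1 : t i * t j ∈ Subgroup.center (Cfsg.SU 4 F 2) := by
      have h3 := congrArg e hij
      rw [hea, hea, QuotientGroup.eq, hTinv _ _ (hiso i)] at h3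
      exact h3
    obtain ⟨k, hk⟩ := uPts_sep i j hne'
    have hpt : (t i * t j).1.1.mulVec (vec (uPts k)) = vec (tu (uPts i) (tu (uPts j) (uPts k))) := by
      rw [hmulv, hT, hT, ← htu, ← htu]
    have hv' : B ((t i * t j).1.1.mulVec (vec (uPts k))) ((t i * t j).1.1.mulVec (vec (uPts k))) = 0 := by
      rw [← Classical.suEquiv_apply hθq]
      exact ((ε (t i * t j)).2.1 _ _).trans (hiso k)
    have h4 : T _ hv' = t k := by
      rw [← hconj (t i * t j) _ (hiso k) hv', ← Subgroup.mem_center_iff.1 h1, mul_inv_cancel_right]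
    obtain ⟨κ, hκ⟩ := hTline _ _ hv' (hiso k)
      (fun h0 => hne (uPts_ok k).2 (by
        have h5 := congrArg (fun y => ((t i * t j)⁻¹).1.1.mulVec y) h0
        simp only [← hmulv, inv_mul_cancel, OneMemClass.coe_one, Matrix.SpecialLinearGroup.coe_one,
          Matrix.one_mulVec, Matrix.mulVec_zero] at h5
        exact h5)) h4
    obtain ⟨s, rfl⟩ := hevs κ
    obtain ⟨m, hm⟩ := hk s
    refine hm (hevi ?_)
    have := congrFun (hpt.symm.trans hκ) m
    simpa [vec, hmul] using this
  · intro i j
    obtain ⟨k, hr, s, hs0, hs⟩ := uPts_op i j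
    refine ⟨k, e.injective ?_, hr⟩
    rw [map_mul, map_mul, hea, hea, hea, ← QuotientGroup.mk_mul, ← QuotientGroup.mk_mul]
    refine congrArg _ ?_
    have hv' : B ((t i).1.1.mulVec (vec (uPts j))) ((t i).1.1.mulVec (vec (uPts j))) = 0 := by
      rw [← Classical.suEquiv_apply hθq]
      exact ((ε (t i)).2.1 _ _).trans (hiso j)
    calc t i * t j * t i = t i * t j * (t i)⁻¹ := by rw [hTinv _ _ (hiso i)]
      _ = T _ hv' := hconj _ _ (hiso j) hv'
      _ = t k := by
        have hv2 : (t i).1.1.mulVec (vec (uPts j)) = ev s • vec (uPts k) := by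
          rw [hT, ← htu, hscal hs]
        have hq : ∀ v w hv hw, v = w → T v hv = T w hw := by rintro v w hv hw rfl; rfl
        rw [hq _ _ hv' (hv2 ▸ hv') hv2]
        exact hTscal _ _ (hiso k) _ fun h0 => hs0 (hev0 s h0)

end Cfsg.Agent.FischerThm.Refl
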