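import Cfsg.Agent.FischerThm.Refl.Signs

/-!
# The class as the reflections of one more dimension

The members are `d`, the reflections commuting with it and the members given by isotropic vectors;
conjugation is that of the reflections in the vectors `(0, 1)`, `(v, 0)` and `(w, 1)`.
-/

set_option autoImplicit false

namespace Cfsg.Agent.FischerThm.Refl

open Module QuadraticMap Cfsg
open Cfsg.Agent.ThreeTrans (dperp class_conj class_isConj commute_conj conj_self_of_commute braid
  mul_self mul_self_mul mul_mul_self)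

variable {G : Type*} [Group G] {D : Set G} {V : Type*} [AddCommGroup V] [Module (ZMod 3) V]
  {Q : QuadraticForm (ZMod 3) V} {d : G} {p : V → G}

/-- The form with one further vector of norm one. -/
noncomputable def big (Q : QuadraticForm (ZMod 3) V) : QuadraticForm (ZMod 3) (V × ZMod 3) :=
  Q.prod QuadraticMap.sq

theorem big_apply (u : V × ZMod 3) : big Q u = Q u.1 + u.2 * u.2 := rfl

theorem polar_big (u u' : V × ZMod 3) :
    polar (big Q) u u' = polar Q u.1 u'.1 + 2 * (u.2 * u'.2) := by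
  simp only [polar, big_apply, Prod.fst_add, Prod.snd_add]
  ring

theorem rfl'_big (u x : V × ZMod 3) : rfl' (big Q) u x =
    (x.1 - (polar Q x.1 u.1 + 2 * (x.2 * u.2)) • u.1,
      x.2 - (polar Q x.1 u.1 + 2 * (x.2 * u.2)) * u.2) := by
  rw [rfl', polar_big]
  rfl

/-- The norm-one vectors of the larger form up to sign. -/
theorem one_big_cases {u : V × ZMod 3} (hu : One (big Q) u) :
    (∃ v, One Q v ∧ u = (v, 0)) ∨ Pm u (0, 1) ∨ ∃ w, Iso Q w ∧ Pm u (w, 1) := by
  obtain ⟨v, a⟩ := u
  rw [One, big_apply] at hu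
  rcases z3_cases a with rfl | rfl | rfl
  · exact Or.inl ⟨v, by simpa [One] using hu, rfl⟩
  · right
    by_cases hv : v = 0
    · exact Or.inl (Or.inl (by rw [hv]))
    · exact Or.inr ⟨v, ⟨hv, by simpa using hu⟩, Pm.refl _⟩
  · right
    by_cases hv : v = 0
    · exact Or.inl (Or.inr (by rw [hv, Prod.neg_mk, neg_zero]))
    · exact Or.inr ⟨-v, ⟨neg_ne_zero.2 hv, by simpa [q_neg] using hu⟩,
        Or.inr (by rw [Prod.neg_mk, neg_neg])⟩

variable [Finite G] (hH : Hyp D) (hM : Model D d Q p) (hS : Sp Q) {h : V → G}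

/-- What is known of the map to the members not commuting with `d`. -/
structure AMap (D : Set G) (d : G) (Q : QuadraticForm (ZMod 3) V) (p h : V → G) : Prop where
  pol : ∀ w, Iso Q w → Pol D d Q p (h w) w
  neg : ∀ w, Iso Q w → h (-w) = d * h w * d
  surj : ∀ e ∈ aside D d, ∃ w, Iso Q w ∧ h w = e
  inj : ∀ w w', Iso Q w → Iso Q w' → h w = h w' → w = w'
  sign : ∀ w w', Iso Q w → Iso Q w' → polar Q w w' ≠ 0 →
    (Commute (h w) (h w') ↔ polar Q w w' = 1)

variable (hA : AMap D d Q p h)

section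
include hH hM hS hA

/-- The reflection of a member not commuting with `d`. -/
theorem conj_ea {v w : V} (hv : One Q v) (hw : Iso Q w) :
    p v * h w * p v = h (rfl' Q v w) := by
  have hc := hA.pol w hw
  by_cases hb : polar Q w v = 0
  · rw [rfl'_orth hb]
    exact conj_self_of_commute hH.cls.1 (hM.memD hv)
      ((hc.iff v hv).2 (by rw [p_comm]; exact hb)).symm
  have hnc : ¬ Commute (p v) (h w) := fun hh => hb (by rw [p_comm]; exact (hc.iff v hv).1 hh.symm)
  have hb' : polar Q w (rfl' Q v w) = -1 := by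
    rw [rfl', polar_sub_right, p_smul_right, p_self_iso hw.2, z3_sq hb, zero_sub]
  have h1 := hc.conj hH hM hv
  have h2 := hA.pol _ (hw.rfl' hv)
  have hb2 : polar Q w (rfl' Q v w) ≠ 0 := by rw [hb']; decide
  rcases pol_eq_or_flip hH hM hS h2 h1 with e | e
  · exact e
  · exfalso
    have h3 : Commute (h w) (p v * h w * p v) := by
      rw [e, commute_flip_xor hH hM hS hc h2 hb2, hA.sign _ _ hw (hw.rfl' hv) hb2, hb']
      decide
    rw [braid hH.cls.1 (hM.memD hv) hc.mem.1 hnc] at h3
    refine hnc ?_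
    have h4 := (commute_conj (h w) (h w) (p v)).1 (by
      rw [inv_self hH hc.mem.1]
      rwa [mul_assoc (h w) (h w), mul_self hH.cls.1 hc.mem.1, mul_one])
    exact h4.symm

/-- Members with orthogonal vectors commute only if equal. -/
theorem eq_of_commute_orth {w w' : V} (hw : Iso Q w) (hw' : Iso Q w') (hb : polar Q w w' = 0)
    (hcm : Commute (h w) (h w')) : w = w' := by
  by_contra hne
  have hc := hA.pol w hw
  have hc' := hA.pol w' hw'
  obtain ⟨b, hbd, hbc, he⟩ := exists_nbr hH.group hM.base hc.mem hc'.mem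
    (fun e => hne (hA.inj _ _ hw hw' e.symm)) hcm
  obtain ⟨v, hv, rfl⟩ := hM.surj b hbd
  have hpol := ((hc.conj hH hM hv).flip hH hM)
  have hpm := pol_pm hH hM hS hpol (show Pol D d Q p (d * (p v * h w * p v) * d) w' by rw [he] at hc'; exact hc')
  have hbv : polar Q w v ≠ 0 := fun h0 => hbc ((hc.iff v hv).2 (by rw [p_comm]; exact h0)).symm
  rw [pm_polar_zero hpm, rfl', polar_sub_right, p_smul_right, p_self_iso hw.2, z3_sq hbv] at hb
  exact absurd hb (by decide)

/-- Two members with vectors of product minus one. -/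
theorem conj_aa_minus {w w' : V} (hw : Iso Q w) (hw' : Iso Q w') (hb : polar Q w w' = -1) :
    One Q (w' - w) ∧ h w * h w' * h w = p (w' - w) := by
  have hv : One Q (w' - w) := by
    rw [One, sub_eq_add_neg, q_add, q_neg, hw'.2, hw.2, polar_neg_right, p_comm, hb]; decide
  have hβ : polar Q w (w' - w) = -1 := by
    rw [polar_sub_right, hb, p_self_iso hw.2, sub_zero]
  have e : rfl' Q (w' - w) w = w' := by rw [rfl', hβ, neg_smul, one_smul]; abel
  have hnc : ¬ Commute (p (w' - w)) (h w) := fun hh => by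
    have := ((hA.pol w hw).iff _ hv).1 hh.symm
    rw [p_comm, hβ] at this
    exact absurd this (by decide)
  refine ⟨hv, ?_⟩
  rw [← e, ← conj_ea hH hM hS hA hv hw, e, braid hH.cls.1 (hM.memD hv) (hA.pol w hw).mem.1 hnc]
  simp only [mul_assoc, mul_self hH.cls.1 (hA.pol w hw).mem.1, mul_one,
    mul_self_mul hH.cls.1 (hA.pol w hw).mem.1]

/-- Two members with orthogonal independent vectors. -/
theorem conj_aa_zero {w w' : V} (hw : Iso Q w) (hw' : Iso Q w') (hb : polar Q w w' = 0)
    (hp : ¬ Pm w' w) : Iso Q (-(w + w')) ∧ h w * h w' * h w = h (-(w + w')) := by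
  have hT := hH.cls.1
  have hcD := (hA.pol w hw).mem.1
  have hc'D := (hA.pol w' hw').mem.1
  have hnc : ¬ Commute (h w) (h w') := fun hcm =>
    hp (Or.inl (eq_of_commute_orth hH hM hS hA hw hw' hb hcm).symm)
  set e := h w * h w' * h w with he
  have heD : e ∈ D := conj_memD hH hcD hc'D
  have hback : h w * e * h w = h w' := by
    rw [he]; simp only [mul_assoc, mul_self hT hcD, mul_one, mul_self_mul hT hcD]
  have hea : e ∈ aside D d := by
    refine ⟨heD, fun hde => ?_⟩
    rcases eq_or_ne e d with hed | hed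
    · rw [hed, braid hT hcD hM.base fun hh => (hA.pol w hw).mem.2 hh.symm, ← hA.neg w hw] at hback
      exact hp (Or.inr (hA.inj _ _ hw' hw.neg hback.symm))
    obtain ⟨v, hv, hve⟩ := hM.surj e ⟨heD, hed, hde⟩
    rw [← hve] at hback
    by_cases hcv : Commute (p v) (h w)
    · rw [conj_self_of_commute hT hcD hcv.symm] at hback
      exact (hA.pol w' hw').mem.2 (hback ▸ hM.commute_d hv)
    rw [← braid hT (hM.memD hv) hcD hcv, conj_ea hH hM hS hA hv hw] at hback
    have h1 := hA.inj _ _ (hw.rfl' hv) hw' hback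
    have hbv : polar Q w v ≠ 0 := fun h0 => hcv (((hA.pol w hw).iff v hv).2
      (by rw [p_comm]; exact h0)).symm
    rw [← h1, rfl', polar_sub_right, p_smul_right, p_self_iso hw.2, z3_sq hbv] at hb
    exact absurd hb (by decide)
  obtain ⟨y, hy, hye⟩ := hA.surj e hea
  have hyw : polar Q w y = 0 := by
    rcases z3_cases (polar Q w y) with h0 | h0 | h0
    · exact h0
    · exfalso
      have h1 : Commute (h w) (h y) := (hA.sign w y hw hy (by rw [h0]; decide)).2 h0
      rw [hye, ← conj_self_of_commute hT hcD (Commute.refl (h w))] at h1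
      have h2 : Commute (h w * h w * (h w)⁻¹) (h w * h w' * (h w)⁻¹) := by
        rw [inv_self hH hcD]; exact h1
      exact hnc ((commute_conj _ _ _).1 h2)
    · exfalso
      obtain ⟨hv, h1⟩ := conj_aa_minus hH hM hS hA hw hy h0
      rw [hye, hback] at h1
      exact (hA.pol w' hw').mem.2 (h1 ▸ hM.commute_d hv)
  have hyne : y ≠ w ∧ y ≠ w' ∧ y ≠ -w := by
    refine ⟨fun e1 => ?_, fun e1 => ?_, fun e1 => ?_⟩
    · rw [← hye, e1, conj_self_of_commute hT hcD (Commute.refl _)] at hback
      exact hp (Or.inl (hA.inj _ _ hw hw' hback).symm)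
    · rw [← hye, e1] at hback
      refine hnc (show h w * h w' = h w' * h w from ?_)
      calc h w * h w' = h w * h w' * h w * h w := (mul_mul_self hT hcD _).symm
        _ = h w' * h w := by rw [hback]
    · rw [← hye, e1, hA.neg w hw, braid hT hM.base hcD (hA.pol w hw).mem.2,
        show h w * (h w * d * h w) * h w = d by
          simp only [mul_assoc, mul_self hT hcD, mul_one, mul_self_mul hT hcD]] at hback
      exact (hA.pol w' hw').mem.2 (hback ▸ Commute.refl d)
  -- every functional one on both is one on `y`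
  have hfun : ∀ v, polar Q v w = 1 → polar Q v w' = 1 → polar Q v y = 1 := by
    intro v a b
    obtain ⟨k, hk⟩ := exists_adjust (Q := Q) v w hw.2 (by rw [a]; exact one_ne_zero) 0
    have a' : polar Q (v + k • w) w = 1 := by
      rw [polar_add_left, p_smul_left, p_self_iso hw.2, a, mul_zero, add_zero]
    have b' : polar Q (v + k • w) w' = 1 := by
      rw [polar_add_left, p_smul_left, hb, b, mul_zero, add_zero]
    have ht : Iso Q (v + k • w) :=
      ⟨fun e1 => by rw [e1, p_zero_left] at a'; exact zero_ne_one a', hk⟩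
    have c1 := (hA.sign _ _ ht hw (by rw [a']; exact one_ne_zero)).2 a'
    have c2 := (hA.sign _ _ ht hw' (by rw [b']; exact one_ne_zero)).2 b'
    have c3 : Commute (h (v + k • w)) (h y) := by
      rw [hye]; exact (c1.mul_right c2).mul_right c1
    have h3 : polar Q (v + k • w) y = 1 := by
      by_cases h0 : polar Q (v + k • w) y = 0
      · exfalso
        have := eq_of_commute_orth hH hM hS hA ht hy h0 c3
        rw [← this, p_comm, a'] at hyw
        exact one_ne_zero hyw
      · exact (hA.sign _ _ ht hy h0).1 c3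
    rwa [polar_add_left, p_smul_left, hyw, mul_zero, add_zero] at h3
  have hind2 := iso_indep hw hw' hp
  obtain ⟨a, b, hab⟩ : ∃ a b : ZMod 3, y = a • w + b • w' := by
    by_contra hdep
    obtain ⟨v, a1, a2, a3⟩ := exists_polar_eq₃ hS (u₁ := w) (u₂ := w') (u₃ := y)
      (fun a b c heq => by
        have hc : c = 0 := by
          by_contra hc
          refine hdep ⟨-(c * a), -(c * b), ?_⟩
          calc y = (c * c) • y := by rw [z3_sq hc, one_smul]
            _ = c • (c • y) := mul_smul c c y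
            _ = c • -(a • w + b • w') := by rw [eq_neg_of_add_eq_zero_right heq]
            _ = _ := by module
        subst hc
        rw [zero_smul, add_zero] at heq
        obtain ⟨ha, hb⟩ := hind2 a b heq
        exact ⟨ha, hb, rfl⟩) 1 1 0
    have := hfun v a1 a2
    rw [a3] at this
    exact zero_ne_one this
  obtain ⟨v, a1, a2⟩ := exists_polar_eq₂ hS hind2 1 1
  have hsum := hfun v a1 a2
  rw [hab, polar_add_right, p_smul_right, p_smul_right, a1, a2, mul_one, mul_one] at hsum
  have key : ∀ a b : ZMod 3, a + b = 1 → (a = 1 ∧ b = 0) ∨ (a = 0 ∧ b = 1) ∨ (a = -1 ∧ b = -1) := by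
    decide
  rcases key a b hsum with ⟨rfl, rfl⟩ | ⟨rfl, rfl⟩ | ⟨rfl, rfl⟩
  · exact absurd (by rw [hab, one_smul, zero_smul, add_zero]) hyne.1
  · exact absurd (by rw [hab, one_smul, zero_smul, zero_add]) hyne.2.1
  · have hy2 : y = -(w + w') := by rw [hab, neg_smul, neg_smul, one_smul, one_smul]; abel
    exact ⟨hy2 ▸ hy, by rw [← hy2, hye]⟩

/-- The class as reflections of the larger form. -/
theorem exists_bij :
    ∃ f : V × ZMod 3 → G, (∀ u, One (big Q) u → f u ∈ D) ∧
      (∀ e ∈ D, ∃ u, One (big Q) u ∧ f u = e) ∧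
      (∀ u u', One (big Q) u → One (big Q) u' → (f u = f u' ↔ Pm u u')) ∧
      ∀ u u', One (big Q) u → One (big Q) u' → f u * f u' * f u = f (rfl' (big Q) u u') := by
  classical
  let f : V × ZMod 3 → G := fun u =>
    if u.2 = 0 then p u.1 else if u.1 = 0 then d else h (u.2 • u.1)
  have fE : ∀ v, f (v, 0) = p v := fun v => if_pos rfl
  have fd : f (0, 1) = d := by simp [f]
  have fA : ∀ w, w ≠ 0 → f (w, 1) = h w := fun w hw => by simp [f, hw]
  have fneg : ∀ u, One (big Q) u → f (-u) = f u := by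
    rintro ⟨v, a⟩ hu
    by_cases ha : a = 0
    · subst ha
      rw [Prod.neg_mk, neg_zero, fE, fE]
      exact hM.neg (by simpa [One, big_apply] using hu)
    · by_cases hv : v = 0
      · simp [f, ha, hv]
      · simp [f, ha, hv]
  have fpm : ∀ {u u'}, One (big Q) u' → Pm u u' → f u = f u' := fun {u u'} hu' hp => by
    rcases hp with rfl | rfl
    exacts [rfl, fneg u' hu']
  have oneE : ∀ {v}, One Q v → One (big Q) (v, 0) := fun hv => by simpa [One, big_apply] using hv
  have oned : One (big Q) ((0 : V), (1 : ZMod 3)) := by simp [One, big_apply]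
  have oneA : ∀ {w}, Iso Q w → One (big Q) (w, 1) := fun hw => by simp [One, big_apply, hw.2]
  have hT := hH.cls.1
  have hd := hM.base
  have canon : ∀ u, One (big Q) u → ∃ u', One (big Q) u' ∧ Pm u u' ∧
      ((∃ v, One Q v ∧ u' = (v, 0)) ∨ u' = (0, 1) ∨ ∃ w, Iso Q w ∧ u' = (w, 1)) := by
    intro u hu
    rcases one_big_cases hu with ⟨v, hv, rfl⟩ | hp | ⟨w, hw, hp⟩
    · exact ⟨_, hu, Pm.refl _, Or.inl ⟨v, hv, rfl⟩⟩
    · exact ⟨_, oned, hp, Or.inr (Or.inl rfl)⟩
    · exact ⟨_, oneA hw, hp, Or.inr (Or.inr ⟨w, hw, rfl⟩)⟩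
  refine ⟨f, ?_, ?_, ?_, ?_⟩
  · intro u hu
    obtain ⟨u', hu', hp, hcase⟩ := canon u hu
    rw [fpm hu' hp]
    rcases hcase with ⟨v, hv, rfl⟩ | rfl | ⟨w, hw, rfl⟩
    · rw [fE]; exact hM.memD hv
    · rw [fd]; exact hd
    · rw [fA w hw.1]; exact (hA.pol w hw).mem.1
  · intro e he
    by_cases hde : Commute d e
    · rcases eq_or_ne e d with rfl | hne
      · exact ⟨_, oned, fd⟩
      · obtain ⟨v, hv, rfl⟩ := hM.surj e ⟨he, hne, hde⟩
        exact ⟨_, oneE hv, fE v⟩
    · obtain ⟨w, hw, rfl⟩ := hA.surj e ⟨he, hde⟩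
      exact ⟨_, oneA hw, fA w hw.1⟩
  · intro u₀ u₀' hu hu'
    refine ⟨fun heq => ?_, fun hp => fpm hu' hp⟩
    obtain ⟨u, hu1, hp, hcase⟩ := canon u₀ hu
    obtain ⟨u', hu1', hp', hcase'⟩ := canon u₀' hu'
    rw [fpm hu1 hp, fpm hu1' hp'] at heq
    refine hp.trans (Pm.trans ?_ hp'.symm)
    rcases hcase with ⟨v, hv, rfl⟩ | rfl | ⟨w, hw, rfl⟩ <;>
      rcases hcase' with ⟨v', hv', rfl⟩ | rfl | ⟨w', hw', rfl⟩
    · rw [fE, fE] at heq
      rcases (hM.eq_iff v v' hv hv').1 heq with rfl | rfl
      · exact Or.inl rfl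
      · exact Or.inr (by rw [Prod.neg_mk, neg_zero])
    · rw [fE, fd] at heq; exact absurd heq (hM.mem v hv).2.1
    · rw [fE, fA w' hw'.1] at heq
      exact absurd (heq ▸ hM.commute_d hv) (hA.pol w' hw').mem.2
    · rw [fd, fE] at heq; exact absurd heq.symm (hM.mem v' hv').2.1
    · exact Pm.refl _
    · rw [fd, fA w' hw'.1] at heq
      exact absurd (heq ▸ Commute.refl d) (hA.pol w' hw').mem.2
    · rw [fE, fA w hw.1] at heq
      exact absurd (heq.symm ▸ hM.commute_d hv') (hA.pol w hw).mem.2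
    · rw [fd, fA w hw.1] at heq
      exact absurd (heq.symm ▸ Commute.refl d) (hA.pol w hw).mem.2
    · rw [fA w hw.1, fA w' hw'.1] at heq
      rw [hA.inj _ _ hw hw' heq]
      exact Pm.refl _
  -- conjugation
  intro u₀ u₀' hu₀ hu₀'
  obtain ⟨u, hu, hp, hcase⟩ := canon u₀ hu₀
  obtain ⟨u', hu', hp', hcase'⟩ := canon u₀' hu₀'
  rw [fpm hu hp, fpm hu' hp']
  have e2 : Pm (rfl' (big Q) u₀ u₀') (rfl' (big Q) u u') := by
    have e1 : rfl' (big Q) u₀ u₀' = rfl' (big Q) u u₀' := by
      rcases hp with rfl | rfl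
      · rfl
      · rw [rfl', rfl', polar_neg_right, smul_neg, neg_smul, neg_neg]
    rw [e1]
    rcases hp' with rfl | rfl
    · exact Pm.refl _
    · exact Or.inr (rfl'_neg u u')
  rw [fpm ((q_rfl' hu u').trans hu') e2]
  have h22 : (2 : ZMod 3) = -1 := rfl
  rcases hcase with ⟨v, hv, rfl⟩ | rfl | ⟨w, hw, rfl⟩ <;>
    rcases hcase' with ⟨v', hv', rfl⟩ | rfl | ⟨w', hw', rfl⟩
  · rw [fE, fE, rfl'_big]
    simp only [mul_zero, add_zero, sub_zero]
    rw [fE]
    exact hM.conj v v' hv hv'
  · rw [rfl'_big]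
    simp only [mul_zero, add_zero, sub_zero, p_zero_left, zero_smul]
    rw [fE, fd]
    exact conj_self_of_commute hT (hM.memD hv) (hM.commute_d hv).symm
  · rw [rfl'_big]
    simp only [mul_zero, add_zero, sub_zero]
    rw [fE, fA w' hw'.1, show w' - polar Q w' v • v = rfl' Q v w' from rfl,
      fA _ (hw'.rfl' hv).1]
    exact conj_ea hH hM hS hA hv hw'
  · rw [rfl'_big]
    simp only [zero_mul, mul_zero, add_zero, sub_zero, p_zero_right, smul_zero]
    rw [fd, fE]
    exact conj_self_of_commute hT hd (hM.commute_d hv')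
  · have hn : rfl' (big Q) ((0 : V), (1 : ZMod 3)) (0, 1) = -(0, 1) := rfl'_self oned
    rw [hn, fneg _ oned, fd, mul_self hT hd, one_mul]
  · have hn : rfl' (big Q) ((0 : V), (1 : ZMod 3)) (w', 1) = -(-w', 1) := by
      rw [rfl'_big]
      simp only [p_zero_right, zero_add, mul_one, smul_zero, sub_zero, Prod.neg_mk, neg_neg]
      rfl
    rw [hn, fneg _ (oneA hw'.neg), fd, fA w' hw'.1, fA _ hw'.neg.1, hA.neg w' hw']
  · have hc := hA.pol w hw
    by_cases hb : polar Q v' w = 0
    · rw [rfl'_orth (show polar (big Q) (v', (0 : ZMod 3)) (w, 1) = 0 by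
        rw [polar_big, hb]; simp), fE, fA w hw.1]
      exact conj_self_of_commute hT hc.mem.1 ((hc.iff v' hv').2 hb)
    have hnc : ¬ Commute (p v') (h w) := fun hh => hb ((hc.iff v' hv').1 hh.symm)
    have hn : Pm (rfl' (big Q) (w, (1 : ZMod 3)) (v', 0)) (rfl' Q v' w, 1) := by
      have e : rfl' (big Q) (w, (1 : ZMod 3)) (v', 0) =
          (v' - polar Q v' w • w, -polar Q v' w) := by
        rw [rfl'_big]; simp
      rw [e, rfl', p_comm w v']
      rcases z3_cases (polar Q v' w) with h0 | h0 | h0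
      · exact absurd h0 hb
      · refine Or.inr (Prod.ext ?_ ?_)
        · show v' - polar Q v' w • w = -(w - polar Q v' w • v')
          rw [h0, one_smul, one_smul]; abel
        · show -polar Q v' w = -1
          rw [h0]
      · refine Or.inl (Prod.ext ?_ ?_)
        · show v' - polar Q v' w • w = w - polar Q v' w • v'
          rw [h0, neg_smul, neg_smul, one_smul, one_smul]; abel
        · show -polar Q v' w = 1
          rw [h0]; rfl
    rw [fpm (oneA (hw.rfl' hv')) hn, fE, fA w hw.1, fA _ (hw.rfl' hv').1,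
      ← conj_ea hH hM hS hA hv' hw]
    exact (braid hT (hM.memD hv') hc.mem.1 hnc).symm
  · have hc := hA.pol w hw
    have hn : rfl' (big Q) (w, (1 : ZMod 3)) (0, 1) = -(-w, 1) := by
      rw [rfl'_big]
      simp only [p_zero_left, zero_add, mul_one, zero_sub, Prod.neg_mk, h22, neg_smul, one_smul,
        neg_neg]
      rfl
    rw [hn, fneg _ (oneA hw.neg), fd, fA w hw.1, fA _ hw.neg.1, hA.neg w hw]
    exact (braid hT hd hc.mem.1 hc.mem.2).symm
  · rw [fA w hw.1, fA w' hw'.1]
    have hc := hA.pol w hw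
    have hrb : rfl' (big Q) (w, (1 : ZMod 3)) (w', 1) =
        (w' - (polar Q w' w + 2) • w, 1 - (polar Q w' w + 2)) := by
      rw [rfl'_big]; simp
    rcases z3_cases (polar Q w w') with hb | hb | hb
    · by_cases hpm : Pm w' w
      · rcases hpm with rfl | rfl
        · rw [rfl'_self (oneA hw), fneg _ (oneA hw), fA w' hw.1]
          exact conj_self_of_commute hT hc.mem.1 (Commute.refl _)
        · have hn : rfl' (big Q) (w, (1 : ZMod 3)) (-w, 1) = -(0, 1) := by
            rw [hrb, p_comm, hb, zero_add, Prod.neg_mk, neg_zero]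
            refine Prod.ext ?_ rfl
            show -w - (2 : ZMod 3) • w = 0
            rw [show -w - (2 : ZMod 3) • w = -((3 : ZMod 3) • w) by module,
              show (3 : ZMod 3) = 0 from rfl, zero_smul, neg_zero]
          rw [hn, fneg _ oned, fd, hA.neg w hw, braid hT hd hc.mem.1 hc.mem.2]
          simp only [mul_assoc, mul_self hT hc.mem.1, mul_one, mul_self_mul hT hc.mem.1]
      · obtain ⟨hi, he⟩ := conj_aa_zero hH hM hS hA hw hw' hb hpm
        have hn : rfl' (big Q) (w, (1 : ZMod 3)) (w', 1) = -(-(w + w'), 1) := by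
          rw [hrb, p_comm, hb, zero_add, Prod.neg_mk, neg_neg]
          refine Prod.ext ?_ rfl
          show w' - (2 : ZMod 3) • w = w + w'
          rw [h22, neg_smul, one_smul]; abel
        rw [hn, fneg _ (oneA hi), fA _ hi.1]
        exact he
    · rw [rfl'_orth (show polar (big Q) (w', (1 : ZMod 3)) (w, 1) = 0 by
        rw [polar_big, p_comm, hb]; rfl), fA w' hw'.1]
      exact conj_self_of_commute hT hc.mem.1 ((hA.sign w w' hw hw' (by rw [hb]; decide)).2 hb)
    · obtain ⟨hv, he⟩ := conj_aa_minus hH hM hS hA hw hw' hb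
      have hn : rfl' (big Q) (w, (1 : ZMod 3)) (w', 1) = (w' - w, 0) := by
        rw [hrb, p_comm, hb, show (-1 : ZMod 3) + 2 = 1 from rfl, one_smul, sub_self]
      rw [hn, fE]
      exact he

end

end Cfsg.Agent.FischerThm.Refl
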