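import Cfsg.Agent.FischerThm.Refl.Space

/-!
# The two exceptional spaces in coordinates

In dimensions five and six there is a space of maximal Witt index in which two orthogonal
norm-one vectors need not have a common orthogonal one; the finitely many facts used there are
checked in orthogonal coordinates.
-/

set_option autoImplicit false

namespace Cfsg.Agent.FischerThm.Refl

open Module QuadraticMap Cfsg.Agent.Classical

/-- A diagonal form. -/
def qd {n : ℕ} (q : Fin n → ZMod 3) (a : Fin n → ZMod 3) : ZMod 3 := ∑ i, q i * (a i * a i)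

/-- Its polar form. -/
def bd {n : ℕ} (q : Fin n → ZMod 3) (a b : Fin n → ZMod 3) : ZMod 3 :=
  ∑ i, 2 * (q i * (a i * b i))

/-- The reflection in a vector of norm one. -/
def rd {n : ℕ} (q : Fin n → ZMod 3) (v x : Fin n → ZMod 3) : Fin n → ZMod 3 :=
  fun i => x i - bd q x v * v i

/-- Signature of the five-dimensional exception. -/
def sig5 : Fin 5 → ZMod 3 := ![1, 1, 1, -1, -1]

/-- Signature of the six-dimensional exception. -/
def sig6 : Fin 6 → ZMod 3 := ![1, 1, 1, -1, -1, -1]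

/-- The ten vectors generated from two orthogonal lines. -/
def ten : Fin 10 → Fin 5 → ZMod 3 :=
  ![![1, 0, 0, 0, 0], ![0, 1, 0, 0, 0], ![1, 0, 2, 1, 0], ![1, 0, 1, 2, 0], ![0, 1, 2, 2, 0],
    ![0, 1, 1, 1, 0], ![1, 2, 0, 2, 0], ![1, 1, 0, 2, 0], ![1, 1, 0, 1, 0], ![1, 2, 0, 1, 0]]

/-- Three reflections moving one of the ten off them, fixing the first line. -/
def word : Fin 3 → Fin 5 → ZMod 3 :=
  ![![1, 0, 1, 1, 0], ![1, 1, 0, 0, 1], ![1, 1, 2, 2, 1]]

/-- Membership of the ten up to sign. -/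
def InTen (v : Fin 5 → ZMod 3) : Prop := ∃ i, v = ten i ∨ v = -ten i

instance (v : Fin 5 → ZMod 3) : Decidable (InTen v) :=
  inferInstanceAs (Decidable (∃ i, v = ten i ∨ v = -ten i))

theorem ten_one : ∀ i, qd sig5 (ten i) = 1 := by decide +kernel

theorem ten_has_orth : ∀ i, ∃ j, bd sig5 (ten i) (ten j) = 0 := by decide +kernel

theorem ten_local : ∀ i, ∀ a₀ a₁ a₂ a₃ a₄ : ZMod 3, ![a₀, a₁, a₂, a₃, a₄] ≠ 0 →
    qd sig5 ![a₀, a₁, a₂, a₃, a₄] = 0 → bd sig5 (ten i) ![a₀, a₁, a₂, a₃, a₄] = 0 →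
    (∀ j, bd sig5 (ten i) (ten j) = 0 → bd sig5 (ten j) ![a₀, a₁, a₂, a₃, a₄] = 0) →
    ∀ b₀ b₁ b₂ b₃ b₄ : ZMod 3, qd sig5 ![b₀, b₁, b₂, b₃, b₄] = 1 →
      bd sig5 (ten i) ![b₀, b₁, b₂, b₃, b₄] = 0 →
      bd sig5 ![b₀, b₁, b₂, b₃, b₄] ![a₀, a₁, a₂, a₃, a₄] = 0 →
      InTen ![b₀, b₁, b₂, b₃, b₄] := by decide +kernel

theorem ten_cover : ∀ b₀ b₁ b₂ b₃ b₄ : ZMod 3, qd sig5 ![b₀, b₁, b₂, b₃, b₄] = 1 →
    InTen ![b₀, b₁, b₂, b₃, b₄] ∨ ∃ i, bd sig5 ![b₀, b₁, b₂, b₃, b₄] (ten i) = 0 := by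
  decide +kernel

theorem word_one : ∀ i, qd sig5 (word i) = 1 := by decide +kernel

theorem word_x : rd sig5 (word 2) (rd sig5 (word 1) (rd sig5 (word 0) (ten 0))) = -ten 0 := by
  decide +kernel

theorem word_w : rd sig5 (word 2) (rd sig5 (word 1) (rd sig5 (word 0) ![0, 0, 2, 2, 0])) =
    ![0, 0, 2, 2, 0] := by decide +kernel

theorem word_out : ¬ InTen (rd sig5 (word 2) (rd sig5 (word 1) (rd sig5 (word 0) (ten 3)))) := by
  decide +kernel

theorem count5 :
    (Finset.univ.filter fun v : Fin 5 → ZMod 3 => qd sig5 v = 1).card = 90 ∧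
    (Finset.univ.filter fun v : Fin 5 → ZMod 3 =>
      qd sig5 v = 1 ∧ bd sig5 v ![1, 0, 0, 0, 0] = 0).card = 24 ∧
    (Finset.univ.filter fun v : Fin 5 → ZMod 3 =>
      qd sig5 v = 1 ∧ bd sig5 v ![0, 2, 0, 2, 0] = 0).card = 36 := by decide +kernel

theorem count6 :
    (Finset.univ.filter fun v : Fin 6 → ZMod 3 => qd sig6 v = 1).card = 234 ∧
    (Finset.univ.filter fun v : Fin 6 → ZMod 3 =>
      qd sig6 v = 1 ∧ bd sig6 v ![1, 0, 0, 0, 0, 0] = 0).card = 72 ∧
    (Finset.univ.filter fun v : Fin 6 → ZMod 3 =>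
      qd sig6 v = 1 ∧ bd sig6 v ![0, 2, 0, 2, 0, 0] = 0).card = 72 := by decide +kernel

theorem no_square5 : ∀ m : Fin 10, m.val ≠ 0 →
    ∀ r : Fin 32, r.val * r.val ≠ (12 - m.val) ^ 2 + 4 * (45 - m.val) := by decide +kernel

theorem no_square6 : ∀ m : Fin 19, m.val ≠ 0 →
    ∀ r : Fin 64, r.val * r.val ≠ (36 - m.val) ^ 2 + 4 * (117 - m.val) := by decide +kernel

/-- Coordinates with respect to an orthogonal family filling the space. -/
theorem exists_coord {V : Type*} [AddCommGroup V] [Module (ZMod 3) V]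
    {Q : QuadraticForm (ZMod 3) V} [FiniteDimensional (ZMod 3) V] {n : ℕ}
    (hn : finrank (ZMod 3) V = n) (f : Fin n → V) (q : Fin n → ZMod 3) (hq : ∀ i, Q (f i) = q i)
    (h0 : ∀ i, q i ≠ 0) (hp : ∀ i j, i ≠ j → polar Q (f i) (f j) = 0) :
    ∃ L : (Fin n → ZMod 3) ≃ₗ[ZMod 3] V, (∀ i, L (Pi.single i 1) = f i) ∧
      (∀ a b, polar Q (L a) (L b) = bd q a b) ∧ ∀ a, Q (L a) = qd q a := by
  let T := Fintype.linearCombination (ZMod 3) f
  have hpol : ∀ a b, polar Q (T a) (T b) = bd q a b := by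
    intro a b
    simp only [T, Fintype.linearCombination_apply, ← polarBilin_apply_apply, map_sum,
      LinearMap.sum_apply, map_smul, LinearMap.smul_apply, smul_eq_mul]
    rw [bd]
    refine Finset.sum_congr rfl fun i _ => ?_
    rw [Finset.sum_eq_single i (fun j _ hji => by
      rw [polarBilin_apply_apply, hp j i hji]; simp) (by simp), polarBilin_apply_apply, p_self, hq]
    ring
  have hinj : Function.Injective T := by
    rw [injective_iff_map_eq_zero]
    intro a ha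
    funext i
    have h := hpol a (Pi.single i 1)
    rw [ha, p_zero_left, bd, Finset.sum_eq_single i
      (fun j _ hji => by rw [Pi.single_eq_of_ne hji]; simp) (by simp)] at h
    simp only [Pi.single_eq_same, mul_one] at h
    rcases mul_eq_zero.1 h.symm with h2 | h2
    · exact absurd h2 (by decide)
    · exact (mul_eq_zero.1 h2).resolve_left (h0 i)
  have hbij : Function.Bijective T :=
    ⟨hinj, (LinearMap.injective_iff_surjective_of_finrank_eq_finrank
      (by rw [Module.finrank_fin_fun, hn])).1 hinj⟩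
  refine ⟨LinearEquiv.ofBijective T hbij, fun i => ?_, hpol, fun a => ?_⟩
  · simp [T, Fintype.linearCombination_apply_single]
  · have h := hpol a a
    rw [p_self] at h
    have h2 : bd q a a = 2 * qd q a := by rw [bd, qd, Finset.mul_sum]
    rw [h2] at h
    exact mul_left_cancel₀ (by decide) h

end Cfsg.Agent.FischerThm.Refl
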