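import Cfsg.Agent.FischerThm.Refl.Polar
import Cfsg.Agent.FischerThm.Local.Lines
import Cfsg.Agent.ThreeTrans.SrgTrace

/-!
# The common partners fill the hyperplane

Otherwise the space is one of the two exceptional ones, the common partners number at most half of
the norm-one points of the hyperplane, and the commuting graph has an irrational eigenvalue.
-/

set_option autoImplicit false

namespace Cfsg.Agent.FischerThm.Refl

open Module QuadraticMap Cfsg
open Cfsg.Agent.ThreeTrans (dperp class_conj class_isConj commute_conj)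

variable {G : Type*} [Group G] {D : Set G} {V : Type*} [AddCommGroup V] [Module (ZMod 3) V]
  {Q : QuadraticForm (ZMod 3) V} {d : G} {p : V → G}

/-- A set of norm-one vectors closed under sign is twice its image. -/
theorem two_mul_ncard_image [Finite V] (hM : Model D d Q p) (P : V → Prop)
    (hone : ∀ v, P v → One Q v) (hneg : ∀ v, P v → P (-v)) :
    2 * (p '' {v | P v}).ncard = {v | P v}.ncard := by
  classical
  have hfin := Set.toFinite {v | P v}
  set A := hfin.toFinset with hA
  have himg : (p '' {v | P v}) = ↑(A.image p) := by simp [hA]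
  rw [himg, Set.ncard_coe_finset, Set.ncard_eq_toFinset_card _ hfin, ← hA,
    Finset.card_eq_sum_card_image p A]
  rw [Finset.sum_const_nat (m := 2), mul_comm]
  intro y hy
  obtain ⟨v, hv, rfl⟩ := Finset.mem_image.1 hy
  have hv' : P v := by simpa [hA] using hv
  have hset : (A.filter fun u => p u = p v) = {v, -v} := by
    ext u
    simp only [hA, Finset.mem_filter, Set.Finite.mem_toFinset, Set.mem_ofPred_eq, Finset.mem_insert,
      Finset.mem_singleton]
    constructor
    · rintro ⟨hu, he⟩
      exact (hM.eq_iff u v (hone u hu) (hone v hv')).1 he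
    · rintro (rfl | rfl)
      exacts [⟨hv', rfl⟩, ⟨hneg v hv', hM.neg (hone v hv')⟩]
  rw [hset, Finset.card_pair]
  intro h
  have h1 := p_self_one (hone v hv')
  nth_rw 2 [h] at h1
  rw [polar_neg_right, p_self_one (hone v hv')] at h1
  exact absurd h1 (by decide)

/-- Counting vectors in coordinates. -/
theorem ncard_coord {n : ℕ} (L : (Fin n → ZMod 3) ≃ₗ[ZMod 3] V) (P : V → Prop)
    (P' : (Fin n → ZMod 3) → Prop) [DecidablePred P'] (h : ∀ a, P (L a) ↔ P' a) :
    {v | P v}.ncard = (Finset.univ.filter P').card := by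
  rw [← Set.ncard_coe_finset]
  refine (Set.ncard_congr (fun v _ => L.symm v) ?_ ?_ ?_)
  · intro v hv; simpa [← h] using hv
  · intro u v _ _ he; exact L.symm.injective he
  · intro a ha
    exact ⟨L a, by simpa [← h] using ha, L.symm_apply_apply a⟩

variable [Finite G] (hH : Hyp D) (hM : Model D d Q p) (hS : Sp Q) {c : G} (hc : c ∈ D)
  (hdc : ¬ Commute d c)

section
include hH hM hS hc hdc

/-- Two disjoint translates of the common partners exclude a strongly regular commuting graph. -/
theorem count_absurd {x w z : V} (h : Dir Q p c x w) (hz : One Q z) (hzw : polar Q z w = 0)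
    (hzc : ¬ Commute c (p z)) (k l N : ℕ) (hk : {v | One Q v}.ncard = 2 * k)
    (hl : {v | One Q v ∧ polar Q v x = 0}.ncard = 2 * l)
    (hN : {v | One Q v ∧ polar Q v w = 0}.ncard = 2 * N) (hNl : N < 2 * l) (hlk : l < k)
    (hsq : ∀ m, 0 < m → 2 * m ≤ N → ∀ r : ℕ, r * r ≠ (l - m) ^ 2 + 4 * (k - m)) : False := by
  have := hS.fin
  have : Finite V := Module.finite_of_finite (ZMod 3)
  have hd := hM.base
  have hcl := hH.group
  have haside : c ∈ aside D d := ⟨hc, hdc⟩
  set Z := p z with hZdef
  have hZ : Z ∈ dperp D d := hM.mem z hz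
  have hnc : ¬ Commute Z c := fun hh => hzc hh.symm
  have hc'a := conj_mem_aside hcl hZ haside
  set c' := Z * c * Z with hc'def
  have hmemc : ∀ {e v}, e ∈ aside D d → One Q v →
      (p v ∈ common D d e ↔ Commute e (p v)) := fun {e v} he hv =>
    ⟨fun hh => hh.2.2.2, fun hh => ⟨hM.mem v hv, hM.memD hv,
      fun hh' => he.2 (hh' ▸ hM.commute_d hv), hh⟩⟩
  have hperp : ∀ v, One Q v → Commute c (p v) → polar Q v w = 0 := fun v hv hv' =>
    (dir_all hH hM hS hc hdc h hv hv').orth
  have hconj : ∀ v, One Q v → (Commute c' (p v) ↔ Commute c (p (rfl' Q z v))) := by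
    intro v hv
    rw [← hmemc hc'a hv, mem_common_conj hcl hZ, hM.conj z v hz hv,
      hmemc haside (show One Q (rfl' Q z v) from (q_rfl' hz v).trans hv)]
  have hperp' : ∀ v, One Q v → Commute c' (p v) → polar Q v w = 0 := fun v hv hv' => by
    have h1 := hperp _ ((q_rfl' hz v).trans hv) ((hconj v hv).1 hv')
    rwa [rfl', polar_sub_left, p_smul_left, hzw, mul_zero, sub_zero] at h1
  -- the two sets of common partners are disjoint
  have hdisj : Disjoint (common D d c) (common D d c') := by
    rw [Set.disjoint_left]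
    intro y hy hy'
    obtain ⟨u, hu, rfl⟩ := hM.surj y hy.1
    have hcu := (hmemc haside hu).1 hy
    have hcu' := (hmemc hc'a hu).1 hy'
    have hd1 := dir_all hH hM hS hc hdc h hu hcu
    obtain ⟨w', hw'⟩ := exists_dir' hH hM hS hc'a.1 hc'a.2 hu hcu'
    have hd2 := hw'.of_pm (pm_of_sub hS hu hw'.iso h.iso hw'.orth (hperp u hu hcu)
      fun v hv hvu hvw => hperp' v hv ((hw'.iff v hv hvu).2 hvw))
    rcases eq_or_flip hH hM hS hu hc hc'a.1 hdc hc'a.2 hcu hcu'
        (fun v hv hvu => (hd1.iff v hv hvu).trans (hd2.iff v hv hvu).symm) with he | he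
    · refine hnc (show Z * c = c * Z from ?_)
      calc Z * c = Z * c * Z * Z := (ThreeTrans.mul_mul_self hH.cls.1 hZ.1 _).symm
        _ = c * Z := by rw [← hc'def, he]
    · refine hZ.2.1 ?_
      rw [hc'def, ThreeTrans.braid hH.cls.1 hZ.1 hc hnc,
        ThreeTrans.braid hH.cls.1 hd hc hdc] at he
      exact mul_left_cancel (mul_right_cancel he)
  have hcard : (common D d c').ncard = (common D d c).ncard := by
    have he : common D d c' = (fun y => Z * y * Z) '' common D d c := by
      apply Set.ext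
      intro y
      have hzz : ∀ y, Z * (Z * y * Z) * Z = y := fun y => by
        simp only [mul_assoc, ThreeTrans.mul_self hH.cls.1 hZ.1, mul_one,
          ThreeTrans.mul_self_mul hH.cls.1 hZ.1]
      rw [hc'def, mem_common_conj hcl hZ]
      exact ⟨fun hy => ⟨_, hy, hzz y⟩, by rintro ⟨t, ht, rfl⟩; rwa [hzz]⟩
    rw [he, Set.ncard_image_of_injective _ fun a b hab => mul_left_cancel (mul_right_cancel hab)]
  set m := (common D d c).ncard with hm
  have h2m : 2 * m ≤ N := by
    have hsub : common D d c ∪ common D d c' ⊆ p '' {v | One Q v ∧ polar Q v w = 0} := by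
      rintro y (hy | hy)
      · obtain ⟨u, hu, rfl⟩ := hM.surj y hy.1
        exact ⟨u, ⟨hu, hperp u hu ((hmemc haside hu).1 hy)⟩, rfl⟩
      · obtain ⟨u, hu, rfl⟩ := hM.surj y hy.1
        exact ⟨u, ⟨hu, hperp' u hu ((hmemc hc'a hu).1 hy)⟩, rfl⟩
    have h1 := Set.ncard_le_ncard hsub (Set.toFinite _)
    rw [Set.ncard_union_eq hdisj, hcard] at h1
    have h2 := two_mul_ncard_image hM (fun v => One Q v ∧ polar Q v w = 0) (fun v hv => hv.1)
      (fun v hv => ⟨hv.1.neg, by rw [polar_neg_left, hv.2, neg_zero]⟩)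
    omega
  have hm0 : 0 < m := (Set.ncard_pos).2 ⟨p x, (hmemc haside h.one).2 h.com⟩
  have hdk : (dperp D d).ncard = k := by
    have he : dperp D d = p '' {v | One Q v} := by
      apply Set.ext
      intro y
      exact ⟨fun hy => (hM.surj y hy).imp fun v hv => hv,
        by rintro ⟨v, hv, rfl⟩; exact hM.mem v hv⟩
    have h2 := two_mul_ncard_image hM (fun v => One Q v) (fun v hv => hv) fun v hv => hv.neg
    rw [he]; omega
  have hdl : (dperp D d ∩ dperp D (p x)).ncard = l := by
    have he : dperp D d ∩ dperp D (p x) = p '' {v | One Q v ∧ polar Q v x = 0} := by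
      apply Set.ext
      intro y
      constructor
      · rintro ⟨hy, hy'⟩
        obtain ⟨v, hv, hvx, rfl⟩ := hM.exists_orth h.one hy hy'
        exact ⟨v, ⟨hv, hvx⟩, rfl⟩
      · rintro ⟨v, ⟨hv, hvx⟩, rfl⟩
        exact ⟨hM.mem v hv, (hM.dperp_iff h.one hv).2 (by rw [p_comm]; exact hvx)⟩
    have h2 := two_mul_ncard_image hM (fun v => One Q v ∧ polar Q v x = 0) (fun v hv => hv.1)
      (fun v hv => ⟨hv.1.neg, by rw [polar_neg_left, hv.2, neg_zero]⟩)
    rw [he]; omega
  -- the commuting graph
  have := Fintype.ofFinite D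
  have hinj : ∀ g : G, Function.Injective (fun y : G => g * y * g⁻¹) := fun g a b hab =>
    mul_left_cancel (mul_right_cancel hab)
  have himg : ∀ g u : G, (fun y => g * y * g⁻¹) '' dperp D u = dperp D (g * u * g⁻¹) :=
    fun g u => (bijOn_conj_dperp hcl.2.1 g u).image_eq
  have hsubt : ∀ T : Set G, T ⊆ D → {b : D | (b : G) ∈ T}.ncard = T.ncard := fun T hT => by
    rw [← Set.ncard_image_of_injective _ Subtype.val_injective]
    congr 1
    apply Set.ext
    intro y
    exact ⟨by rintro ⟨b, hb, rfl⟩; exact hb, fun hy => ⟨⟨y, hT hy⟩, hy, rfl⟩⟩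
  obtain ⟨r, hr⟩ := ThreeTrans.isSquare_of_srg (α := D) (fun a b => (b : G) ∈ dperp D (a : G))
    (fun a b hab => ⟨a.2, Ne.symm hab.2.1, hab.2.2.symm⟩) (fun a ha => ha.2.1 rfl) k l m
    (fun a => by
      rw [hsubt _ fun y hy => hy.1]
      obtain ⟨g, hg⟩ := class_isConj hH.cls hd a.2
      rw [← hg, ← himg, Set.ncard_image_of_injective _ (hinj g), hdk])
    (fun a b hab => by
      rw [show {c : D | (c : G) ∈ dperp D (a : G) ∧ (c : G) ∈ dperp D (b : G)} =
        {c : D | (c : G) ∈ dperp D (a : G) ∩ dperp D (b : G)} from rfl, hsubt _ fun y hy => hy.1.1]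
      obtain ⟨g, hg⟩ := class_isConj hH.cls hd a.2
      have h1 : g * p x * g⁻¹ ∈ dperp D (a : G) := by
        rw [← hg, ← himg]; exact ⟨p x, hM.mem x h.one, rfl⟩
      obtain ⟨f, hf, hfb⟩ := hH.exists_conj_dperp a.2 h1 hab
      have hfa : f * (a : G) * f⁻¹ = a := by rw [hf.eq, mul_inv_cancel_right]
      rw [← hfb, ← hdl]
      conv_lhs => rw [← hfa, ← himg, ← himg, ← Set.image_inter (hinj f),
        Set.ncard_image_of_injective _ (hinj f), ← hg, ← himg, ← himg, ← Set.image_inter (hinj g),
        Set.ncard_image_of_injective _ (hinj g)])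
    (fun a b hne hab => by
      rw [show {c : D | (c : G) ∈ dperp D (a : G) ∧ (c : G) ∈ dperp D (b : G)} =
        {c : D | (c : G) ∈ dperp D (a : G) ∩ dperp D (b : G)} from rfl, hsubt _ fun y hy => hy.1.1]
      obtain ⟨g, hg, hg'⟩ := hH.exists_conj_pair hd haside a.2
        (show (b : G) ∈ aside D (a : G) from
          ⟨b.2, fun hh => hab ⟨b.2, fun e => hne (Subtype.ext e.symm), hh⟩⟩)
      rw [← hg, ← hg', ← himg, ← himg, ← Set.image_inter (hinj g),
        Set.ncard_image_of_injective _ (hinj g)]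
      rfl)
    (by omega) (by omega)
    (Fintype.one_lt_card_iff.2 ⟨⟨d, hd⟩, ⟨c, hc⟩, fun e => hdc (by
      rw [show d = c from congrArg Subtype.val e])⟩)
  exact hsq m hm0 h2m r hr.symm

/-- The common partners are all norm-one points of the hyperplane. -/
theorem all_common {x w z : V} (h : Dir Q p c x w) (hz : One Q z) (hzw : polar Q z w = 0) :
    Commute c (p z) := by
  by_contra hzc
  have hβ : polar Q z x ≠ 0 := fun h0 => hzc ((h.iff z hz h0).2 hzw)
  set β := polar Q z x with hβdef
  set v := z + β • x with hvdef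
  have hvx : polar Q v x = 0 := by
    rw [hvdef, polar_add_left, p_smul_left, p_self_one h.one, ← hβdef,
      show β + β * 2 = (3 : ZMod 3) * β by ring, show (3 : ZMod 3) = 0 from rfl, zero_mul]
  have hvw : polar Q v w = 0 := by
    rw [hvdef, polar_add_left, p_smul_left, hzw, h.orth, mul_zero, add_zero]
  have hv0 : Q v = 0 := by
    rw [hvdef, q_add_smul, hz, h.one, ← hβdef, z3_sq hβ]; decide
  -- `z` is no translate of `x`
  have hne : ∀ j : ZMod 3, v ≠ j • w := fun j hj => hzc (by
    have hze : z = -β • (x + (-(β * j)) • w) := by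
      rw [show z = v + -β • x by rw [hvdef]; module, hj, smul_add, smul_smul, neg_mul_neg,
        ← mul_assoc, z3_sq hβ, one_mul, add_comm]
    have hd' := dir_translate hH hM hS hc hdc h (-(β * j))
    rw [hM.of_pm hd'.one (show Pm z (x + (-(β * j)) • w) by
      rcases z3_cases β with hb | hb | hb
      · exact absurd hb hβ
      · refine Or.inr ?_; conv_lhs => rw [hze, hb, neg_smul, one_smul]
        rw [hb]
      · refine Or.inl ?_; conv_lhs => rw [hze, hb, neg_neg, one_smul]
        rw [hb])]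
    exact hd'.com)
  have hviso : Iso Q v := ⟨fun h0 => hne 0 (by rw [h0, zero_smul]), hv0⟩
  have hxv : polar Q x v = 0 := by rw [p_comm]; exact hvx
  have hind := (pm_or_indep h.one h.iso hviso h.orth hxv).resolve_left (by
    rintro (h0 | h0)
    · exact hne 1 (by rw [h0, one_smul])
    · exact hne (-1) (by rw [h0, neg_smul, one_smul]))
  clear_value v
  -- hyperbolic partners
  obtain ⟨s₀, a1, a2, a3⟩ := exists_polar_eq₃ hS hind 0 1 0
  obtain ⟨k₁, hk₁⟩ := exists_adjust (Q := Q) s₀ w h.iso.2 (by rw [a2]; exact one_ne_zero) 0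
  set s := s₀ + k₁ • w
  have hsw : polar Q s w = 1 := by
    rw [polar_add_left, p_smul_left, p_self_iso h.iso.2, a2, mul_zero, add_zero]
  have hsx : polar Q s x = 0 := by
    rw [polar_add_left, p_smul_left, p_comm w x, h.orth, a1, mul_zero, add_zero]
  have hsv : polar Q s v = 0 := by
    rw [polar_add_left, p_smul_left, p_comm w v, hvw, a3, mul_zero, add_zero]
  obtain ⟨q₀, b1, b2, b3, b4⟩ := exists_polar_eq₄ hS (u₁ := x) (u₂ := w) (u₃ := v) (u₄ := s)
    (fun a b e f heq => by
      have hf : f = 0 := by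
        have h3 := congrArg (fun u => polar Q w u) heq
        simp only [polar_add_right, p_smul_right, p_self_iso h.iso.2, p_comm w x, h.orth,
          p_comm w v, hvw, p_comm w s, hsw, mul_zero, add_zero, zero_add, mul_one,
          p_zero_right] at h3
        exact h3
      subst hf
      rw [zero_smul, add_zero] at heq
      obtain ⟨ha, hb, he⟩ := hind a b e heq
      exact ⟨ha, hb, he, rfl⟩) 0 0 1 0
  obtain ⟨k₂, hk₂⟩ := exists_adjust (Q := Q) q₀ v hv0 (by rw [b3]; exact one_ne_zero) 0
  set q := q₀ + k₂ • v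
  have hqv : polar Q q v = 1 := by
    rw [polar_add_left, p_smul_left, p_self_iso hv0, b3, mul_zero, add_zero]
  have hqx : polar Q q x = 0 := by
    rw [polar_add_left, p_smul_left, hvx, b1, mul_zero, add_zero]
  have hqw : polar Q q w = 0 := by
    rw [polar_add_left, p_smul_left, hvw, b2, mul_zero, add_zero]
  have hqs : polar Q q s = 0 := by
    rw [polar_add_left, p_smul_left, p_comm v s, hsv, b4, mul_zero, add_zero]
  obtain ⟨e1, e2, e3, e4⟩ := pair_facts h.iso.2 hk₁ (by rw [p_comm]; exact hsw)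
  obtain ⟨f1, f2, f3, f4⟩ := pair_facts hv0 hk₂ (by rw [p_comm]; exact hqv)
  have hfp : ∀ i j : Fin 5, i ≠ j →
      polar Q (![x, w + s, v + q, w + -s, v + -q] i) (![x, w + s, v + q, w + -s, v + -q] j) = 0 := by
    have g1 : polar Q x (w + s) = 0 := by rw [polar_add_right, h.orth, p_comm, hsx, add_zero]
    have g2 : polar Q x (w + -s) = 0 := by
      rw [polar_add_right, polar_neg_right, h.orth, p_comm, hsx, neg_zero, add_zero]
    have g3 : polar Q x (v + q) = 0 := by rw [polar_add_right, hxv, p_comm, hqx, add_zero]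
    have g4 : polar Q x (v + -q) = 0 := by
      rw [polar_add_right, polar_neg_right, hxv, p_comm, hqx, neg_zero, add_zero]
    have cross : ∀ a b : ZMod 3, polar Q (w + a • s) (v + b • q) = 0 := fun a b => by
      rw [polar_add_left, polar_add_right, polar_add_right, p_smul_left, p_smul_left, p_smul_right,
        p_smul_right, p_comm w v, hvw, p_comm w q, hqw, hsv, p_comm s q, hqs]
      ring
    have g5 : polar Q (w + s) (v + q) = 0 := by simpa using cross 1 1
    have g6 : polar Q (w + s) (v + -q) = 0 := by simpa using cross 1 (-1)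
    have g7 : polar Q (w + -s) (v + q) = 0 := by simpa using cross (-1) 1
    have g8 : polar Q (w + -s) (v + -q) = 0 := by simpa using cross (-1) (-1)
    intro i j hij
    fin_cases i <;> fin_cases j
    all_goals first
      | exact absurd rfl hij
      | exact g1 | exact g2 | exact g3 | exact g4 | exact g5 | exact g6 | exact g7 | exact g8
      | exact e3 | exact f3
      | (rw [p_comm]; exact g1) | (rw [p_comm]; exact g2) | (rw [p_comm]; exact g3)
      | (rw [p_comm]; exact g4) | (rw [p_comm]; exact g5) | (rw [p_comm]; exact g6)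
      | (rw [p_comm]; exact g7) | (rw [p_comm]; exact g8)
      | (rw [p_comm]; exact e3) | (rw [p_comm]; exact f3)
  have hf0 : ∀ i : Fin 5, Q (![x, w + s, v + q, w + -s, v + -q] i) = sig5 i := by
    intro i
    fin_cases i
    exacts [h.one, e1, f1, e2, f2]
  have hf0' : ∀ i : Fin 5, Q (![x, w + s, v + q, w + -s, v + -q] i) ≠ 0 := fun i => by
    rw [hf0 i]; revert i; decide
  -- a common orthogonal norm-one vector decides
  have hkey : ∀ u, One Q u → polar Q u x = 0 → polar Q u w = 0 → polar Q u v ≠ 0 := by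
    intro u hu hux huw huv
    have hdu := dir_all hH hM hS hc hdc h hu ((h.iff u hu hux).2 huw)
    refine hzc ((hdu.iff z hz ?_).2 hzw)
    rw [show z = v + -β • x by rw [hvdef]; module, polar_add_left, p_smul_left, p_comm v u, huv,
      p_comm x u, hux, mul_zero, add_zero]
  have := hS.fin
  have hn5 := hS.dim
  rcases Nat.lt_or_ge (finrank (ZMod 3) V) 7 with hn | hn
  swap
  · obtain ⟨u, hu, hup⟩ := exists_one_perp hS _ (by omega) hf0' hfp
    exact hkey u hu (hup 0) (e4 u (hup 1) (hup 3)) (f4 u (hup 2) (hup 4))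
  have hw2 : (2 : ZMod 3) • (w + s + (w + -s)) = w := by
    rw [show (2 : ZMod 3) • (w + s + (w + -s)) = ((2 : ZMod 3) * 2) • w by module,
      show ((2 : ZMod 3) * 2) = 1 by decide, one_smul]
  rcases Nat.lt_or_ge (finrank (ZMod 3) V) 6 with hn' | hn'
  · obtain ⟨L, hL, hbL, hQL⟩ := exists_coord (Q := Q) (n := 5) (by omega) _ sig5 hf0 (by decide) hfp
    have hx : x = L ![1, 0, 0, 0, 0] := by
      rw [show (![1, 0, 0, 0, 0] : Fin 5 → ZMod 3) = Pi.single 0 1 by decide +kernel, hL 0]
      rfl
    have hw : w = L ![0, 2, 0, 2, 0] := by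
      rw [show (![0, 2, 0, 2, 0] : Fin 5 → ZMod 3) =
        (2 : ZMod 3) • (Pi.single 1 1 + Pi.single 3 1) by decide +kernel, map_smul, map_add, hL 1,
        hL 3]
      exact hw2.symm
    obtain ⟨c1, c2, c3⟩ := count5
    refine count_absurd hH hM hS hc hdc h hz hzw hzc 45 12 18 ?_ ?_ ?_ (by omega) (by omega) ?_
    · rw [ncard_coord L _ (fun a => qd sig5 a = 1) fun a => by rw [One, hQL], c1]
    · rw [ncard_coord L _ (fun a => qd sig5 a = 1 ∧ bd sig5 a ![1, 0, 0, 0, 0] = 0)
      fun a => by rw [One, hQL, hx, hbL], c2]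
    · rw [ncard_coord L _ (fun a => qd sig5 a = 1 ∧ bd sig5 a ![0, 2, 0, 2, 0] = 0)
      fun a => by rw [One, hQL, hw, hbL], c3]
    · intro m hm0 hm r hr
      have hr32 : r < 32 := by
        by_contra hlt
        have h1 : 32 * 32 ≤ r * r := Nat.mul_le_mul (by omega) (by omega)
        have h2 : (12 - m) ^ 2 ≤ 12 ^ 2 := Nat.pow_le_pow_left (by omega) 2
        omega
      exact no_square5 ⟨m, by omega⟩ (by show m ≠ 0; omega) ⟨r, hr32⟩ hr
  obtain ⟨t, ht, ht0⟩ := Cfsg.Agent.S5357.exists_aniso hS.nd _ (by omega) hf0' hfp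
  rcases z3_cases (Q t) with h0 | h0 | h0
  · exact ht0 h0
  · exact hkey t h0 (ht 0) (e4 t (ht 1) (ht 3)) (f4 t (ht 2) (ht 4))
  obtain ⟨L, hL, hbL, hQL⟩ := exists_coord (Q := Q) (n := 6) (by omega)
    (Fin.snoc ![x, w + s, v + q, w + -s, v + -q] t) sig6
    (fun i => by
      refine Fin.lastCases ?_ (fun i => ?_) i
      · rw [Fin.snoc_last, h0]; decide
      · rw [Fin.snoc_castSucc, hf0 i]; revert i; decide)
    (by decide)
    (fun i j => by
      refine Fin.lastCases ?_ (fun i => ?_) i <;> refine Fin.lastCases ?_ (fun j => ?_) j <;>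
        intro hij
      · exact absurd rfl hij
      · rw [Fin.snoc_last, Fin.snoc_castSucc]; exact ht j
      · rw [Fin.snoc_last, Fin.snoc_castSucc, p_comm]; exact ht i
      · rw [Fin.snoc_castSucc, Fin.snoc_castSucc]
        exact hfp i j fun e => hij (congrArg Fin.castSucc e))
  have hx : x = L ![1, 0, 0, 0, 0, 0] := by
    rw [show (![1, 0, 0, 0, 0, 0] : Fin 6 → ZMod 3) = Pi.single 0 1 by decide +kernel, hL 0]
    rfl
  have hw : w = L ![0, 2, 0, 2, 0, 0] := by
    rw [show (![0, 2, 0, 2, 0, 0] : Fin 6 → ZMod 3) =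
      (2 : ZMod 3) • (Pi.single 1 1 + Pi.single 3 1) by decide +kernel, map_smul, map_add, hL 1,
      hL 3]
    exact hw2.symm
  obtain ⟨c1, c2, c3⟩ := count6
  refine count_absurd hH hM hS hc hdc h hz hzw hzc 117 36 36 ?_ ?_ ?_ (by omega) (by omega) ?_
  · rw [ncard_coord L _ (fun a => qd sig6 a = 1) fun a => by rw [One, hQL], c1]
  · rw [ncard_coord L _ (fun a => qd sig6 a = 1 ∧ bd sig6 a ![1, 0, 0, 0, 0, 0] = 0)
      fun a => by rw [One, hQL, hx, hbL], c2]
  · rw [ncard_coord L _ (fun a => qd sig6 a = 1 ∧ bd sig6 a ![0, 2, 0, 2, 0, 0] = 0)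
      fun a => by rw [One, hQL, hw, hbL], c3]
  · intro m hm0 hm r hr
    have hr64 : r < 64 := by
      by_contra hlt
      have h1 : 64 * 64 ≤ r * r := Nat.mul_le_mul (by omega) (by omega)
      have h2 : (36 - m) ^ 2 ≤ 36 ^ 2 := Nat.pow_le_pow_left (by omega) 2
      omega
    exact no_square6 ⟨m, by omega⟩ (by show m ≠ 0; omega) ⟨r, hr64⟩ hr

/-- The common partners of `d` and `c` are the norm-one points orthogonal to one isotropic
vector. -/
theorem exists_polar :
    ∃ w, Iso Q w ∧ ∀ v, One Q v → (Commute c (p v) ↔ polar Q v w = 0) := by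
  obtain ⟨y, hy, hyc⟩ := ThreeTrans.exists_common hH.sol' hH.perf hH.cls hM.base hc hdc
  obtain ⟨x, hx, rfl⟩ := hM.surj y hy
  obtain ⟨w, hw⟩ := exists_dir' hH hM hS hc hdc hx (hyc.symm)
  exact ⟨w, hw.iso, fun v hv => ⟨fun hv' => (dir_all hH hM hS hc hdc hw hv hv').orth,
    all_common hH hM hS hc hdc hw hv⟩⟩

end

end Cfsg.Agent.FischerThm.Refl
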