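import Cfsg.Agent.FischerThm.Refl.Proj
import Cfsg.Agent.FischerThm.Refl.Coord
import Cfsg.Agent.FischerThm.Local.Recognize

/-!
# Recognising a five-dimensional reflection class from a table

A class listed next to norm-one vectors of a five-dimensional form over the field with three
elements, conjugation agreeing, is that class of reflections.
-/

set_option autoImplicit false

namespace Cfsg.Agent.FischerThm.Refl

open Module QuadraticMap Cfsg

/-- A listed class matched with reflections. -/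
theorem reflAt_of_table {G : Type*} [Group G] {D : Set G} (hD : IsThreeTranspositionGroup D)
    (hZ : Subgroup.center G = ⊥) {N : ℕ} (a : Fin N → G) (hmem : ∀ i, a i ∈ D)
    (hsurj : ∀ x ∈ D, ∃ i, a i = x) (hinj : Function.Injective a)
    (sig : Fin 5 → ZMod 3) (hsig : ∀ i, sig i ≠ 0) (r : Fin N → Fin 5 → ZMod 3)
    (hone : ∀ i, qd sig (r i) = 1)
    (hrsurj : ∀ b₀ b₁ b₂ b₃ b₄ : ZMod 3, qd sig ![b₀, b₁, b₂, b₃, b₄] = 1 →
      ∃ i, r i = ![b₀, b₁, b₂, b₃, b₄] ∨ r i = -![b₀, b₁, b₂, b₃, b₄])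
    (hrinj : ∀ i j, r i = r j ∨ r i = -r j → i = j)
    (hop : ∀ i j, ∃ k, a i * a j * a i = a k ∧
      (rd sig (r i) (r j) = r k ∨ rd sig (r i) (r j) = -r k)) :
    ReflAt D 5 := by
  classical
  set Q : QuadraticForm (ZMod 3) (Fin 5 → ZMod 3) := QuadraticMap.weightedSumSquares (ZMod 3) sig
  have hQa : ∀ v, Q v = qd sig v := fun v => by
    simp [Q, qd, QuadraticMap.weightedSumSquares_apply]
  have hpol : ∀ u v, polar Q u v = bd sig u v := fun u v => by
    simp only [polar, hQa, qd, bd, Pi.add_apply]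
    rw [← Finset.sum_sub_distrib, ← Finset.sum_sub_distrib]
    exact Finset.sum_congr rfl fun i _ => by ring
  have hQ : (polarBilin Q).Nondegenerate := by
    have key : ∀ x, (∀ y, polar Q x y = 0) → x = 0 := fun x hx => by
      funext i
      have h := hx (Pi.single i 1)
      rw [hpol, bd, Finset.sum_eq_single i
        (fun j _ hji => by rw [Pi.single_eq_of_ne hji]; simp) (by simp)] at h
      simp only [Pi.single_eq_same, mul_one] at h
      rcases mul_eq_zero.1 h with h2 | h2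
      · exact absurd h2 (by decide)
      · exact (mul_eq_zero.1 h2).resolve_left (hsig i)
    exact ⟨fun x hx => key x hx, fun y hy => key y fun x => by rw [p_comm]; exact hy x⟩
  obtain ⟨q, hq⟩ := exists_projMap (c := 1) hQ (le_refl 5) one_ne_zero
  have hone' : ∀ i, One ((1 : ZMod 3) • Q) (r i) := fun i => by simp [One, hQa, hone]
  have hrd : ∀ u v, rfl' ((1 : ZMod 3) • Q) u v = rd sig u v := fun u v => by
    funext i
    simp [rfl', rd, polar_scaled, hpol]
  have hlist : ∀ v, One ((1 : ZMod 3) • Q) v → ∃ i, Pm (r i) v := by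
    intro v hv
    have he : v = ![v 0, v 1, v 2, v 3, v 4] := by funext j; fin_cases j <;> rfl
    rw [he]
    refine hrsurj _ _ _ _ _ ?_
    rw [← he, ← hQa]
    simpa [One] using hv
  let σ : PR Q 1 → G := fun y => if hy : ∃ i, q (r i) = y then a hy.choose else 1
  have hσ : ∀ i, σ (q (r i)) = a i := fun i => by
    have hy : ∃ j, q (r j) = q (r i) := ⟨i, rfl⟩
    simp only [σ, dif_pos hy]
    exact congrArg a (hrinj _ _ ((hq.eq_iff _ _ (hone' _) (hone' i)).1 hy.choose_spec))
  have hset : ∀ y ∈ PRset Q 1, ∃ i, q (r i) = y := fun y hy => by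
    obtain ⟨v, hv, rfl⟩ := hq.surj y hy
    obtain ⟨i, hi⟩ := hlist v hv
    exact ⟨i, (hq.eq_iff _ _ (hone' i) hv).2 hi⟩
  have hbij : Set.BijOn σ (PRset Q 1) D := by
    refine ⟨fun y hy => ?_, fun y hy y' hy' he => ?_, fun x hx => ?_⟩
    · obtain ⟨i, rfl⟩ := hset y hy
      rw [hσ]
      exact hmem i
    · obtain ⟨i, rfl⟩ := hset y hy
      obtain ⟨j, rfl⟩ := hset y' hy'
      rw [hσ, hσ] at he
      rw [hinj he]
    · obtain ⟨i, rfl⟩ := hsurj x hx
      exact ⟨q (r i), hq.mem _ (hone' i), hσ i⟩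
  obtain ⟨ε, hε, -⟩ := equiv_of_bij hq.group hq.center hD hZ hbij fun y hy y' hy' => by
    obtain ⟨i, rfl⟩ := hset y hy
    obtain ⟨j, rfl⟩ := hset y' hy'
    obtain ⟨k, hk, hk'⟩ := hop i j
    rw [hq.conj _ _ (hone' i) (hone' j), hrd, hσ, hσ, hk,
      (hq.eq_iff (rd sig (r i) (r j)) (r k) (hrd _ _ ▸ (q_rfl' (hone' i) _).trans (hone' j))
        (hone' k)).2 hk', hσ]
  refine ⟨Q, hQ, 1, one_ne_zero, ε.symm, ?_⟩
  show ε.symm '' D = PRset Q 1
  rw [← hε, Set.image_image]
  simp

end Cfsg.Agent.FischerThm.Refl
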