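import Cfsg.Agent.Classical.QuadForm
import Cfsg.Agent.Classical.QuadDecomp
import Cfsg.Agent.S5357

/-!
# Orthogonal spaces over the field with three elements: vectors of norm one and isotropic vectors

Existence of vectors with prescribed products, used to identify Fischer classes of reflections.
-/

set_option autoImplicit false

namespace Cfsg.Agent.FischerThm.Refl

open Module QuadraticMap Cfsg.Agent.Classical

variable {V : Type*} [AddCommGroup V] [Module (ZMod 3) V]

/-- Vectors spanning the same line of norm-one type. -/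
def Pm (u v : V) : Prop := u = v ∨ u = -v

omit [Module (ZMod 3) V] in
theorem Pm.refl (u : V) : Pm u u := Or.inl rfl

omit [Module (ZMod 3) V] in
theorem Pm.symm {u v : V} (h : Pm u v) : Pm v u := by
  rcases h with rfl | rfl
  · exact Or.inl rfl
  · exact Or.inr (neg_neg v).symm

omit [Module (ZMod 3) V] in
theorem Pm.trans {u v w : V} (h : Pm u v) (h' : Pm v w) : Pm u w := by
  rcases h with rfl | rfl <;> rcases h' with rfl | rfl
  · exact Or.inl rfl
  · exact Or.inr rfl
  · exact Or.inr rfl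
  · exact Or.inl (neg_neg w)

omit [Module (ZMod 3) V] in
theorem Pm.neg_left (u : V) : Pm (-u) u := Or.inr rfl

variable (Q : QuadraticForm (ZMod 3) V)

/-- Vectors of norm one. -/
def One (v : V) : Prop := Q v = 1

/-- Nonzero isotropic vectors. -/
def Iso (w : V) : Prop := w ≠ 0 ∧ Q w = 0

/-- The reflection in a vector of norm one. -/
def rfl' (v x : V) : V := x - polar Q x v • v

variable {Q}

theorem one_ne_zero' {v : V} (hv : One Q v) : v ≠ 0 := fun h => by
  rw [One, h, map_zero] at hv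
  exact zero_ne_one hv

theorem q_smul (a : ZMod 3) (x : V) : Q (a • x) = a * a * Q x := Quad.map_smul' a x

theorem q_neg (x : V) : Q (-x) = Q x := QuadraticMap.map_neg Q x

theorem q_add (x y : V) : Q (x + y) = Q x + Q y + polar Q x y := Quad.map_add' x y

theorem q_add_smul (x : V) (a : ZMod 3) (v : V) :
    Q (x + a • v) = Q x + a * polar Q x v + a * a * Q v := Quad.map_add_smul x a v

theorem p_self (x : V) : polar Q x x = 2 * Q x := Quad.polar_self' x

theorem p_self_one {x : V} (hx : One Q x) : polar Q x x = 2 := by rw [p_self, hx, mul_one]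

theorem p_self_iso {x : V} (hx : Q x = 0) : polar Q x x = 0 := by rw [p_self, hx, mul_zero]

theorem p_smul_right (a : ZMod 3) (x y : V) : polar Q x (a • y) = a * polar Q x y := by
  rw [polar_smul_right, smul_eq_mul]

theorem p_smul_left (a : ZMod 3) (x y : V) : polar Q (a • x) y = a * polar Q x y := by
  rw [polar_smul_left, smul_eq_mul]

theorem p_comm (x y : V) : polar Q x y = polar Q y x := polar_comm Q x y

theorem p_zero_left (y : V) : polar Q 0 y = 0 := QuadraticMap.polar_zero_left Q y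

theorem p_zero_right (y : V) : polar Q y 0 = 0 := QuadraticMap.polar_zero_right Q y

theorem One.neg {v : V} (hv : One Q v) : One Q (-v) := (q_neg v).trans hv

theorem One.of_pm {u v : V} (hv : One Q v) (h : Pm u v) : One Q u := by
  rcases h with rfl | rfl
  · exact hv
  · exact hv.neg

theorem Iso.neg {w : V} (hw : Iso Q w) : Iso Q (-w) := ⟨neg_ne_zero.2 hw.1, (q_neg w).trans hw.2⟩

theorem pm_polar_zero {u v : V} (h : Pm u v) (x : V) : polar Q x u = 0 ↔ polar Q x v = 0 := by
  rcases h with rfl | rfl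
  · rfl
  · rw [polar_neg_right, neg_eq_zero]

theorem not_pm_of_orth {u v : V} (hu : One Q u) (h : polar Q u v = 0) : ¬ Pm u v := fun hp => by
  rw [← pm_polar_zero hp, p_self_one hu] at h
  exact absurd h (by decide)

theorem z3_cases (a : ZMod 3) : a = 0 ∨ a = 1 ∨ a = -1 := by revert a; decide

theorem z3_sq {a : ZMod 3} (h : a ≠ 0) : a * a = 1 := by revert a; decide

theorem rfl'_self {v : V} (hv : One Q v) : rfl' Q v v = -v := by
  rw [rfl', p_self_one hv]
  module

theorem rfl'_orth {v x : V} (h : polar Q x v = 0) : rfl' Q v x = x := by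
  rw [rfl', h, zero_smul, sub_zero]

theorem polar_rfl' {v : V} (hv : One Q v) (x y : V) :
    polar Q (rfl' Q v x) (rfl' Q v y) = polar Q x y := by
  simp only [rfl', polar_sub_left, polar_sub_right, p_smul_left, p_smul_right, p_self_one hv,
    p_comm (Q := Q) v y]
  ring

theorem q_rfl' {v : V} (hv : One Q v) (x : V) : Q (rfl' Q v x) = Q x := by
  rw [rfl', sub_eq_add_neg, ← neg_smul, q_add_smul, hv]
  ring

theorem rfl'_rfl' {v : V} (hv : One Q v) (x : V) : rfl' Q v (rfl' Q v x) = x := by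
  have h : polar Q (rfl' Q v x) v = -polar Q x v := by
    rw [rfl', polar_sub_left, p_smul_left, p_self_one hv]
    ring
  rw [rfl', h, rfl']
  module

theorem rfl'_neg (v x : V) : rfl' Q v (-x) = -rfl' Q v x := by
  rw [rfl', rfl', polar_neg_left, neg_smul]
  abel

theorem rfl'_ne_zero {v x : V} (hv : One Q v) (h : x ≠ 0) : rfl' Q v x ≠ 0 := fun hh => h (by
  rw [← rfl'_rfl' hv x, hh, rfl', p_zero_left, zero_smul, sub_zero])

theorem Iso.rfl' {v w : V} (hv : One Q v) (hw : Iso Q w) : Iso Q (rfl' Q v w) :=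
  ⟨rfl'_ne_zero hv hw.1, (q_rfl' hv w).trans hw.2⟩

/-- The standing hypotheses on the space. -/
structure Sp (Q : QuadraticForm (ZMod 3) V) : Prop where
  fin : FiniteDimensional (ZMod 3) V
  nd : (polarBilin Q).Nondegenerate
  dim : 5 ≤ finrank (ZMod 3) V

/-- A vector can be moved to the cone along an isotropic vector it does not annihilate. -/
theorem exists_adjust (x w : V) (hw : Q w = 0) (hxw : polar Q x w ≠ 0) (a : ZMod 3) :
    ∃ k : ZMod 3, Q (x + k • w) = a := by
  refine ⟨polar Q x w * (a - Q x), ?_⟩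
  rw [q_add_smul, hw, mul_zero, add_zero,
    show polar Q x w * (a - Q x) * polar Q x w = (polar Q x w * polar Q x w) * (a - Q x) by ring,
    z3_sq hxw]
  ring

section Exist

variable (hS : Sp Q)
include hS

/-- Products with independent vectors can be prescribed. -/
theorem exists_polar_eq {k : ℕ} (u : Fin k → V) (hu : LinearIndependent (ZMod 3) u)
    (a : Fin k → ZMod 3) : ∃ v, ∀ i, polar Q v (u i) = a i := by
  have := hS.fin
  obtain ⟨g, hg⟩ := LinearMap.exists_leftInverse_of_injective (Fintype.linearCombination (ZMod 3) u)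
    (LinearMap.ker_eq_bot.2 (linearIndependent_iff_injective_fintypeLinearCombination.1 hu))
  let f : V →ₗ[ZMod 3] ZMod 3 := (Fintype.linearCombination (ZMod 3) a).comp g
  have hinj : Function.Injective (polarBilin Q) := by
    rw [injective_iff_map_eq_zero]
    exact fun x hx => hS.nd.1 x fun y => by rw [hx]; rfl
  obtain ⟨v, hv⟩ := (LinearMap.injective_iff_surjective_of_finrank_eq_finrank
    (Subspace.dual_finrank_eq (K := ZMod 3) (V := V)).symm).1 hinj f
  refine ⟨v, fun i => ?_⟩
  have hgi : g (u i) = Pi.single i 1 := by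
    have h := LinearMap.congr_fun hg (Pi.single i 1)
    simpa [Fintype.linearCombination_apply_single] using h
  have h := LinearMap.congr_fun hv (u i)
  rw [polarBilin_apply_apply] at h
  rw [h]
  simp [f, hgi, Fintype.linearCombination_apply_single]

theorem exists_polar_eq₁ {u : V} (hu : u ≠ 0) (a : ZMod 3) : ∃ v, polar Q v u = a := by
  obtain ⟨v, hv⟩ := exists_polar_eq hS ![u] (by rw [linearIndependent_subsingleton_index_iff]; intro i; fin_cases i; exact hu) ![a]
  exact ⟨v, hv 0⟩

theorem exists_polar_eq₂ {u₁ u₂ : V} (hu : ∀ a b : ZMod 3, a • u₁ + b • u₂ = 0 → a = 0 ∧ b = 0)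
    (a₁ a₂ : ZMod 3) : ∃ v, polar Q v u₁ = a₁ ∧ polar Q v u₂ = a₂ := by
  obtain ⟨v, hv⟩ := exists_polar_eq hS ![u₁, u₂] (by
    rw [Fintype.linearIndependent_iff]
    intro g hg i
    simp only [Fin.sum_univ_two, Matrix.cons_val_zero, Matrix.cons_val_one] at hg
    obtain ⟨h0, h1⟩ := hu _ _ hg
    fin_cases i
    exacts [h0, h1]) ![a₁, a₂]
  exact ⟨v, hv 0, hv 1⟩

theorem exists_polar_eq₃ {u₁ u₂ u₃ : V}
    (hu : ∀ a b c : ZMod 3, a • u₁ + b • u₂ + c • u₃ = 0 → a = 0 ∧ b = 0 ∧ c = 0)
    (a₁ a₂ a₃ : ZMod 3) :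
    ∃ v, polar Q v u₁ = a₁ ∧ polar Q v u₂ = a₂ ∧ polar Q v u₃ = a₃ := by
  obtain ⟨v, hv⟩ := exists_polar_eq hS ![u₁, u₂, u₃] (by
    rw [Fintype.linearIndependent_iff]
    intro g hg i
    simp only [Fin.sum_univ_three, Matrix.cons_val_zero, Matrix.cons_val_one, Matrix.cons_val] at hg
    obtain ⟨h0, h1, h2⟩ := hu _ _ _ hg
    fin_cases i
    exacts [h0, h1, h2]) ![a₁, a₂, a₃]
  exact ⟨v, hv 0, hv 1, hv 2⟩

theorem exists_polar_eq₄ {u₁ u₂ u₃ u₄ : V}
    (hu : ∀ a b c e : ZMod 3, a • u₁ + b • u₂ + c • u₃ + e • u₄ = 0 →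
      a = 0 ∧ b = 0 ∧ c = 0 ∧ e = 0) (a₁ a₂ a₃ a₄ : ZMod 3) :
    ∃ v, polar Q v u₁ = a₁ ∧ polar Q v u₂ = a₂ ∧ polar Q v u₃ = a₃ ∧ polar Q v u₄ = a₄ := by
  obtain ⟨v, hv⟩ := exists_polar_eq hS ![u₁, u₂, u₃, u₄] (by
    rw [Fintype.linearIndependent_iff]
    intro g hg i
    simp only [Fin.sum_univ_four, Matrix.cons_val_zero, Matrix.cons_val_one, Matrix.cons_val] at hg
    obtain ⟨h0, h1, h2, h3⟩ := hu _ _ _ _ hg
    fin_cases i
    exacts [h0, h1, h2, h3]) ![a₁, a₂, a₃, a₄]
  exact ⟨v, hv 0, hv 1, hv 2, hv 3⟩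

/-- A norm-one vector not orthogonal to a given one. -/
theorem exists_one_polar {t : V} (ht : t ≠ 0) : ∃ v, One Q v ∧ polar Q v t ≠ 0 := by
  have := hS.fin
  rcases z3_cases (Q t) with h | h | h
  · obtain ⟨v₀, hv₀⟩ := exists_polar_eq₁ hS ht 1
    obtain ⟨k, hk⟩ := exists_adjust v₀ t h (by rw [hv₀]; exact one_ne_zero) 1
    refine ⟨v₀ + k • t, hk, ?_⟩
    rw [polar_add_left, p_smul_left, p_self_iso h, mul_zero, add_zero, hv₀]
    exact one_ne_zero
  · exact ⟨t, h, by rw [p_self_one h]; decide⟩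
  · let W : Submodule (ZMod 3) V := LinearMap.ker (polarBilin Q t)
    have hW : 3 ≤ finrank (ZMod 3) W := by
      have h1 := LinearMap.finrank_range_add_finrank_ker (polarBilin Q t)
      have h2 := Submodule.finrank_le (LinearMap.range (polarBilin Q t))
      rw [Module.finrank_self] at h2
      have := hS.dim
      change 3 ≤ finrank (ZMod 3) (LinearMap.ker (polarBilin Q t))
      omega
    obtain ⟨e, he0, he⟩ := Quad.exists_singular (Q.comp W.subtype) hW
    have he' : Q (e : V) = 0 := he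
    have het : polar Q t e = 0 := e.2
    obtain ⟨v₀, h1, h2⟩ := exists_polar_eq₂ hS (u₁ := t) (u₂ := (e : V)) (fun a b hab => by
      have ha : a = 0 := by
        have h3 := congrArg (fun x => polar Q t x) hab
        simp only [polar_add_right, p_smul_right, het, mul_zero, add_zero, p_zero_right, p_self,
          h] at h3
        exact (mul_eq_zero.1 h3).resolve_right (by decide)
      refine ⟨ha, ?_⟩
      rw [ha, zero_smul, zero_add, smul_eq_zero] at hab
      exact hab.resolve_right fun h4 => he0 (Subtype.ext h4)) 1 1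
    obtain ⟨k, hk⟩ := exists_adjust v₀ e he' (by rw [h2]; exact one_ne_zero) 1
    refine ⟨v₀ + k • (e : V), hk, ?_⟩
    rw [polar_add_left, p_smul_left, p_comm (e : V) t, het, mul_zero, add_zero, h1]
    exact one_ne_zero

/-- A vector orthogonal to all norm-one vectors is zero. -/
theorem eq_zero_of_ones {t : V} (h : ∀ v, One Q v → polar Q v t = 0) : t = 0 := by
  by_contra ht
  obtain ⟨v, hv, hvt⟩ := exists_one_polar hS ht
  exact hvt (h v hv)

/-- A hyperbolic partner of an isotropic vector, orthogonal to a norm-one vector. -/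
theorem exists_partner {x w : V} (hx : One Q x) (hw : Iso Q w) (hxw : polar Q x w = 0) :
    ∃ s, Q s = 0 ∧ polar Q s w = 1 ∧ polar Q s x = 0 := by
  obtain ⟨v₀, h1, h2⟩ := exists_polar_eq₂ hS (u₁ := x) (u₂ := w) (fun a b hab => by
    have h3 := congrArg (fun y => polar Q x y) hab
    simp only [polar_add_right, p_smul_right, p_self_one hx, hxw, mul_zero, add_zero,
      p_zero_right] at h3
    have ha : a = 0 := (mul_eq_zero.1 h3).resolve_right (by decide)
    refine ⟨ha, ?_⟩
    rw [ha, zero_smul, zero_add, smul_eq_zero] at hab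
    exact hab.resolve_right hw.1) 0 1
  obtain ⟨k, hk⟩ := exists_adjust v₀ w hw.2 (by rw [h2]; exact one_ne_zero) 0
  refine ⟨v₀ + k • w, hk, ?_, ?_⟩
  · rw [polar_add_left, p_smul_left, p_self_iso hw.2, mul_zero, add_zero, h2]
  · rw [polar_add_left, p_smul_left, p_comm w x, hxw, mul_zero, add_zero, h1]

/-- A norm-one vector orthogonal to an orthogonal family with room for two more. -/
theorem exists_one_perp {k : ℕ} (f : Fin k → V) (hk : k + 2 ≤ finrank (ZMod 3) V)
    (h0 : ∀ i, Q (f i) ≠ 0) (hp : ∀ i j, i ≠ j → polar Q (f i) (f j) = 0) :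
    ∃ t, One Q t ∧ ∀ i, polar Q t (f i) = 0 := by
  have := hS.fin
  obtain ⟨t₁, ht₁, ht₁'⟩ := Cfsg.Agent.S5357.exists_aniso hS.nd f (by omega) h0 hp
  obtain ⟨t₂, ht₂, ht₂'⟩ := Cfsg.Agent.S5357.exists_aniso hS.nd (Fin.snoc f t₁) (by omega)
    (fun i => by
      refine Fin.lastCases ?_ (fun i => ?_) i
      · rwa [Fin.snoc_last]
      · rw [Fin.snoc_castSucc]
        exact h0 i)
    (fun i j hij => by
      revert hij
      refine Fin.lastCases ?_ (fun i => ?_) i <;> refine Fin.lastCases ?_ (fun j => ?_) j <;> intro hij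
      · exact absurd rfl hij
      · rw [Fin.snoc_last, Fin.snoc_castSucc]
        exact ht₁ j
      · rw [Fin.snoc_last, Fin.snoc_castSucc, p_comm]
        exact ht₁ i
      · rw [Fin.snoc_castSucc, Fin.snoc_castSucc]
        exact hp i j fun h => hij (congrArg Fin.castSucc h))
  have h12 : polar Q t₂ t₁ = 0 := by
    have := ht₂ (Fin.last k)
    rwa [Fin.snoc_last] at this
  have h2f : ∀ i, polar Q t₂ (f i) = 0 := fun i => by
    have := ht₂ i.castSucc
    rwa [Fin.snoc_castSucc] at this
  rcases z3_cases (Q t₁) with h | h | h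
  · exact absurd h ht₁'
  · exact ⟨t₁, h, ht₁⟩
  rcases z3_cases (Q t₂) with h' | h' | h'
  · exact absurd h' ht₂'
  · exact ⟨t₂, h', h2f⟩
  refine ⟨t₁ + t₂, ?_, fun i => by rw [polar_add_left, ht₁ i, h2f i, add_zero]⟩
  rw [One, q_add, h, h', p_comm, h12]
  decide

end Exist

end Cfsg.Agent.FischerThm.Refl
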