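import Cfsg.Agent.FischerThm.Defs
import Cfsg.Agent.FischerThm.Refl.Space
import Cfsg.Agent.ThreeTrans.RankThree

/-!
# A class whose local set is a class of reflections: the view from a common neighbour

`Model D d Q p` says that the members commuting with `d` are the reflections in the norm-one
vectors of `Q`. For a member `c` not commuting with `d` and a norm-one vector `x` whose reflection
commutes with `c`, the members commuting with `d`, `c` and `p x` are the reflections orthogonal to
one isotropic vector.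
-/

set_option autoImplicit false

namespace Cfsg.Agent.FischerThm.Refl

open Module QuadraticMap Cfsg
open Cfsg.Agent.ThreeTrans (dperp class_conj class_isConj commute_conj)

variable {G : Type*} [Group G] {D : Set G} {V : Type*} [AddCommGroup V] [Module (ZMod 3) V]
  {Q : QuadraticForm (ZMod 3) V} {d : G} {p : V → G}

/-- The members commuting with `d` are the reflections in norm-one vectors. -/
structure Model (D : Set G) (d : G) (Q : QuadraticForm (ZMod 3) V) (p : V → G) : Prop where
  base : d ∈ D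
  mem : ∀ v, One Q v → p v ∈ dperp D d
  surj : ∀ y ∈ dperp D d, ∃ v, One Q v ∧ p v = y
  eq_iff : ∀ u v, One Q u → One Q v → (p u = p v ↔ Pm u v)
  comm : ∀ u v, One Q u → One Q v → (Commute (p u) (p v) ↔ polar Q u v = 0 ∨ Pm u v)
  conj : ∀ u v, One Q u → One Q v → p u * p v * p u = p (rfl' Q u v)

variable (hH : Hyp D) (hM : Model D d Q p)

include hH in
theorem hsol' : ∀ N : Subgroup G, N.Normal → N ≤ commutator G → Group.IsSolvable ↥N → N = ⊥ :=
  fun N h _ hs => hH.sol N h hs

include hH in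
theorem tm : IsThreeTranspositionSet D := hH.cls.1

include hH in
theorem inv_self {y : G} (hy : y ∈ D) : y⁻¹ = y := ThreeTrans.inv_eq hH.cls.1 hy

include hH in
theorem conj_memD {y z : G} (hy : y ∈ D) (hz : z ∈ D) : y * z * y ∈ D :=
  ThreeTrans.conj_mem hH.cls.1 (class_conj hH.cls) hy hz

include hM

theorem Model.neg {v : V} (hv : One Q v) : p (-v) = p v :=
  (hM.eq_iff _ _ hv.neg hv).2 (Pm.neg_left v)

theorem Model.of_pm {u v : V} (hv : One Q v) (h : Pm u v) : p u = p v :=
  (hM.eq_iff _ _ (hv.of_pm h) hv).2 h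

theorem Model.memD {v : V} (hv : One Q v) : p v ∈ D := (hM.mem v hv).1

theorem Model.commute_d {v : V} (hv : One Q v) : Commute d (p v) := (hM.mem v hv).2.2

/-- Orthogonality is membership in the layer. -/
theorem Model.dperp_iff {u v : V} (hu : One Q u) (hv : One Q v) :
    p v ∈ dperp D (p u) ↔ polar Q u v = 0 := by
  constructor
  · rintro ⟨-, hne, hc⟩
    exact ((hM.comm u v hu hv).1 hc).resolve_right fun h => hne ((hM.eq_iff v u hv hu).2 h.symm)
  · intro h
    exact ⟨hM.memD hv, fun he => not_pm_of_orth hu h ((hM.eq_iff v u hv hu).1 he).symm,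
      (hM.comm u v hu hv).2 (Or.inl h)⟩

/-- Non-commuting members have non-orthogonal vectors. -/
theorem Model.of_not_commute {u v : V} (hu : One Q u) (hv : One Q v)
    (h : ¬ Commute (p u) (p v)) : polar Q u v ≠ 0 ∧ ¬ Pm u v :=
  ⟨fun h0 => h ((hM.comm u v hu hv).2 (Or.inl h0)), fun h0 => h ((hM.comm u v hu hv).2 (Or.inr h0))⟩

include hH

/-- A model at a conjugate. -/
theorem Model.move (g : G) : Model D (g * d * g⁻¹) Q (fun v => g * p v * g⁻¹) := by
  have hc := class_conj hH.cls
  have hinj : ∀ a b : G, g * a * g⁻¹ = g * b * g⁻¹ → a = b :=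
    fun a b h => mul_left_cancel (mul_right_cancel h)
  refine ⟨hc g d hM.base, fun v hv => ⟨hc g _ (hM.memD hv), fun h => (hM.mem v hv).2.1 (hinj _ _ h),
    (commute_conj g d (p v)).2 (hM.commute_d hv)⟩, ?_, ?_, ?_, ?_⟩
  · rintro y ⟨hy, hne, hcm⟩
    have he : g * (g⁻¹ * y * g) * g⁻¹ = y := by group
    obtain ⟨v, hv, hv'⟩ := hM.surj (g⁻¹ * y * g) ⟨by simpa using hc g⁻¹ y hy,
      fun h => hne (by rw [← he, h]), (commute_conj g d _).1 (by rw [he]; exact hcm)⟩
    exact ⟨v, hv, by simp only [hv', he]⟩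
  · intro u v hu hv
    rw [← hM.eq_iff u v hu hv]
    exact ⟨hinj _ _, fun h => by rw [h]⟩
  · intro u v hu hv
    rw [commute_conj]
    exact hM.comm u v hu hv
  · intro u v hu hv
    rw [← hM.conj u v hu hv]
    group

omit hH in
/-- A member commuting with `d` and `p x` has a vector orthogonal to `x`. -/
theorem Model.exists_orth {x : V} (hx : One Q x) {y : G} (hy : y ∈ dperp D d)
    (hy' : y ∈ dperp D (p x)) : ∃ v, One Q v ∧ polar Q v x = 0 ∧ p v = y := by
  obtain ⟨v, hv, rfl⟩ := hM.surj y hy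
  exact ⟨v, hv, by rw [p_comm]; exact (hM.dperp_iff hx hv).1 hy', rfl⟩

omit hH

/-- The isotropic vector of a line, seen by commutation. -/
theorem Model.line_test {a b v : V} (ha : One Q a) (hb : One Q b) (hab : polar Q a b ≠ 0)
    (hv : One Q v) :
    polar Q v (a + polar Q a b • b) = 0 ↔
      ((p v ∈ dperp D (p a) ↔ p v ∈ dperp D (p b)) ∧
        (p v ∈ dperp D (p a) ↔ p v ∈ dperp D (p (rfl' Q a b)))) := by
  rw [hM.dperp_iff ha hv, hM.dperp_iff hb hv,
    hM.dperp_iff (show One Q (rfl' Q a b) from (q_rfl' ha b).trans hb) hv, rfl', polar_sub_left,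
    p_smul_left, polar_add_right, p_smul_right, p_comm (Q := Q) v a, p_comm (Q := Q) v b,
    p_comm (Q := Q) b a]
  generalize polar Q a b = β at hab
  generalize polar Q a v = α
  generalize polar Q b v = γ
  revert α β γ
  decide

omit hM

/-- The isotropic vector of two non-orthogonal norm-one vectors. -/
theorem iso_of_line {a b : V} (ha : One Q a) (hb : One Q b) (hab : polar Q a b ≠ 0)
    (hpm : ¬ Pm a b) : Iso Q (a + polar Q a b • b) ∧ polar Q a (a + polar Q a b • b) = 0 := by
  refine ⟨⟨fun h => hpm ?_, ?_⟩, ?_⟩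
  · rw [eq_neg_of_add_eq_zero_left h, ← neg_smul]
    rcases z3_cases (polar Q a b) with h0 | h0 | h0
    · exact absurd h0 hab
    · rw [h0, neg_smul, one_smul]; exact Or.inr rfl
    · rw [h0, neg_neg, one_smul]; exact Or.inl rfl
  · rw [q_add_smul, ha, hb, z3_sq hab]
    decide
  · rw [polar_add_right, p_smul_right, p_self_one ha, z3_sq hab]
    decide

section Uniq

variable (hS : Sp Q)
include hS

/-- A norm-one vector orthogonal to a norm-one vector and an isotropic vector. -/
theorem exists_one_perp_iso {x w : V} (hx : One Q x) (hw : Iso Q w) (hxw : polar Q x w = 0) :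
    ∃ u, One Q u ∧ polar Q u x = 0 ∧ polar Q u w = 0 := by
  obtain ⟨s, hs, hsw, hsx⟩ := exists_partner hS hx hw hxw
  have h1 : Q (w + s) = 1 := by rw [q_add, hw.2, hs, p_comm, hsw]; decide
  have h2 : Q (w + (-1 : ZMod 3) • s) = -1 := by
    rw [q_add_smul, hw.2, hs, p_comm, hsw]; decide
  obtain ⟨u, hu, hup⟩ := exists_one_perp hS ![x, w + s, w + (-1 : ZMod 3) • s]
    (by have := hS.dim; omega)
    (fun i => by
      fin_cases i
      · show Q x ≠ 0
        rw [hx]; exact one_ne_zero
      · show Q (w + s) ≠ 0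
        rw [h1]; exact one_ne_zero
      · show Q (w + (-1 : ZMod 3) • s) ≠ 0
        rw [h2]; decide)
    (fun i j hij => by
      have e1 : polar Q x (w + s) = 0 := by rw [polar_add_right, hxw, p_comm, hsx, add_zero]
      have e2 : polar Q x (w + (-1 : ZMod 3) • s) = 0 := by
        rw [polar_add_right, p_smul_right, hxw, p_comm, hsx, mul_zero, add_zero]
      have e3 : polar Q (w + s) (w + (-1 : ZMod 3) • s) = 0 := by
        rw [polar_add_left, polar_add_right, polar_add_right, p_smul_right, p_smul_right,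
          p_self_iso hw.2, p_self_iso hs, p_comm (Q := Q) w s, hsw]
        decide
      fin_cases i <;> fin_cases j
      all_goals first
        | exact absurd rfl hij
        | exact e1 | exact e2 | exact e3
        | (rw [p_comm]; exact e1) | (rw [p_comm]; exact e2) | (rw [p_comm]; exact e3))
  refine ⟨u, hu, hup 0, ?_⟩
  have a1 : polar Q u (w + s) = 0 := hup 1
  have a2 : polar Q u (w + (-1 : ZMod 3) • s) = 0 := hup 2
  rw [polar_add_right] at a1
  rw [polar_add_right, p_smul_right] at a2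
  generalize polar Q u w = α at a1 a2 ⊢
  generalize polar Q u s = γ at a1 a2
  revert α γ
  decide

omit hS in
/-- Orthogonal isotropic vectors beside norm-one vectors are proportional or independent. -/
theorem pm_or_indep {x w w' : V} (hx : One Q x) (hw : Iso Q w) (hw' : Iso Q w')
    (hxw : polar Q x w = 0) (hxw' : polar Q x w' = 0) :
    Pm w' w ∨ ∀ a b c : ZMod 3, a • x + b • w + c • w' = 0 → a = 0 ∧ b = 0 ∧ c = 0 := by
  by_cases hp : Pm w' w
  · exact Or.inl hp
  refine Or.inr fun a b c h => ?_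
  have ha : a = 0 := by
    have h3 := congrArg (fun y => polar Q x y) h
    simp only [polar_add_right, p_smul_right, p_self_one hx, hxw, hxw', mul_zero, add_zero,
      p_zero_right] at h3
    exact (mul_eq_zero.1 h3).resolve_right (by decide)
  subst ha
  rw [zero_smul, zero_add] at h
  rcases z3_cases c with rfl | rfl | rfl
  · rw [zero_smul, add_zero, smul_eq_zero] at h
    exact ⟨rfl, h.resolve_right hw.1, rfl⟩
  · exfalso
    rw [one_smul] at h
    rcases z3_cases b with rfl | rfl | rfl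
    · rw [zero_smul, zero_add] at h; exact hw'.1 h
    · rw [one_smul] at h; exact hp (Or.inr (eq_neg_of_add_eq_zero_right h))
    · rw [neg_smul, one_smul] at h; exact hp (Or.inl (neg_add_eq_zero.1 h).symm)
  · exfalso
    rw [neg_smul (1 : ZMod 3), one_smul] at h
    rcases z3_cases b with rfl | rfl | rfl
    · rw [zero_smul, zero_add, neg_eq_zero] at h; exact hw'.1 h
    · rw [one_smul] at h; exact hp (Or.inl (add_neg_eq_zero.1 h).symm)
    · rw [neg_smul, one_smul, ← neg_add, neg_eq_zero] at h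
      exact hp (Or.inr (eq_neg_of_add_eq_zero_right h))

/-- An isotropic vector orthogonal to `x` is determined up to sign by the norm-one vectors
orthogonal to both. -/
theorem pm_of_sub {x w w' : V} (hx : One Q x) (hw : Iso Q w) (hw' : Iso Q w')
    (hxw : polar Q x w = 0) (hxw' : polar Q x w' = 0)
    (h : ∀ v, One Q v → polar Q v x = 0 → polar Q v w = 0 → polar Q v w' = 0) : Pm w' w := by
  obtain ⟨u, hu, hux, huw⟩ := exists_one_perp_iso hS hx hw hxw
  have hu' : One Q (u + w) := by rw [One, q_add, hu, hw.2, huw]; decide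
  have h2 := h (u + w) hu' (by rw [polar_add_left, hux, p_comm w x, hxw, add_zero])
    (by rw [polar_add_left, huw, p_self_iso hw.2, add_zero])
  rw [polar_add_left, h u hu hux huw, zero_add] at h2
  refine (pm_or_indep hx hw hw' hxw hxw').resolve_right fun hind => ?_
  obtain ⟨v₀, a1, a2, a3⟩ := exists_polar_eq₃ hS hind 0 0 1
  obtain ⟨k, hk⟩ := exists_adjust (Q := Q) v₀ w' hw'.2 (by rw [a3]; exact one_ne_zero) 1
  have h3 := h (v₀ + k • w') hk
    (by rw [polar_add_left, p_smul_left, p_comm w' x, hxw', a1]; simp)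
    (by rw [polar_add_left, p_smul_left, p_comm w' w, h2, a2]; simp)
  rw [polar_add_left, p_smul_left, p_self_iso hw'.2, a3, mul_zero, add_zero] at h3
  exact one_ne_zero h3

end Uniq

section View

variable (hS : Sp Q)
include hS hH hM

omit hS hH hM in
/-- From `p x`, a member `c` not commuting with `d` is given by an isotropic vector. -/
theorem view {q : V → G} {u : V} {x : G} (hq : Model D x Q q) (hu : One Q u) (hqu : q u = d)
    {c : G} (hc : c ∈ dperp D x) (hdc : ¬ Commute d c) :
    ∃ w, Iso Q w ∧ polar Q u w = 0 ∧ q (w + -u) = c ∧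
      ∀ z, One Q z → polar Q z u = 0 → (Commute c (q z) ↔ polar Q z w = 0) := by
  obtain ⟨u', hu', rfl⟩ := hq.surj c hc
  rw [← hqu] at hdc
  obtain ⟨hb, hpm⟩ := hq.of_not_commute hu hu' hdc
  obtain ⟨hiso, hperp⟩ := iso_of_line hu hu' hb hpm
  refine ⟨_, hiso, hperp, ?_, fun z hz hzu => ?_⟩
  · refine hq.of_pm hu' ?_
    rw [add_comm u]
    rcases z3_cases (polar Q u u') with h0 | h0 | h0
    · exact absurd h0 hb
    · rw [h0, one_smul, add_neg_cancel_right]; exact Or.inl rfl
    · rw [h0, neg_smul, one_smul, add_neg_cancel_right]; exact Or.inr rfl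
  · rw [hq.comm u' z hu' hz, polar_add_right, p_smul_right, hzu, zero_add, mul_eq_zero,
      or_iff_right hb, p_comm u' z]
    refine or_iff_left fun hp => hb ?_
    rw [p_comm] at hzu
    exact (pm_polar_zero hp u).2 hzu

/-- The members commuting with `d`, `c` and `p x` are orthogonal to one isotropic vector. -/
theorem exists_dir {x₀ : V} (hx₀ : One Q x₀) {c : G} (hc : c ∈ D) (hdc : ¬ Commute d c)
    (hcx : Commute c (p x₀)) :
    ∃ w, Iso Q w ∧ polar Q x₀ w = 0 ∧
      ∀ v, One Q v → polar Q v x₀ = 0 → (Commute c (p v) ↔ polar Q v w = 0) := by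
  obtain ⟨g, hg⟩ := class_isConj hH.cls hM.base (hM.memD hx₀)
  have hq := hM.move hH g
  rw [hg] at hq
  obtain ⟨u, hu, hqu⟩ := hq.surj d ⟨hM.base, fun h => (hM.mem x₀ hx₀).2.1 h.symm,
    (hM.commute_d hx₀).symm⟩
  obtain ⟨ω, hω, huw, -, hiff⟩ := view hq hu hqu
    ⟨hc, fun h => hdc (h ▸ hM.commute_d hx₀), hcx.symm⟩ hdc
  set q := fun v => g * p v * g⁻¹
  -- three vectors on the line through the isotropic vector
  obtain ⟨z₁, hz₁, hz₁u, hz₁w⟩ := exists_one_perp_iso hS hu hω huw
  have hz₂ : One Q (z₁ + ω) := by rw [One, q_add, hz₁, hω.2, hz₁w]; decide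
  have hz₂u : polar Q (z₁ + ω) u = 0 := by rw [polar_add_left, hz₁u, p_comm, huw, add_zero]
  have hz12 : polar Q z₁ (z₁ + ω) = 2 := by
    rw [polar_add_right, hz₁w, p_self_one hz₁, add_zero]
  -- transport to the vectors of `d`
  have hpull : ∀ z, One Q z → polar Q z u = 0 →
      ∃ v, One Q v ∧ polar Q v x₀ = 0 ∧ p v = q z := fun z hz hzu => by
    refine hM.exists_orth hx₀ ?_ (hq.mem z hz)
    rw [← hqu]
    exact (hq.dperp_iff hu hz).2 (by rw [p_comm]; exact hzu)
  obtain ⟨v₁, hv₁, hv₁x, e₁⟩ := hpull z₁ hz₁ hz₁u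
  obtain ⟨v₂, hv₂, hv₂x, e₂⟩ := hpull _ hz₂ hz₂u
  have hnc : ¬ Commute (q z₁) (q (z₁ + ω)) := fun h => by
    rcases (hq.comm _ _ hz₁ hz₂).1 h with h0 | h0 | h0
    · rw [hz12] at h0; exact absurd h0 (by decide)
    · exact hω.1 (left_eq_add.1 h0)
    · have : polar Q z₁ z₁ = -polar Q z₁ (z₁ + ω) := by
        nth_rw 2 [h0]
        rw [polar_neg_right]
      rw [p_self_one hz₁, hz12] at this
      exact absurd this (by decide)
  rw [← e₁, ← e₂] at hnc
  obtain ⟨hv12, hv12'⟩ := hM.of_not_commute hv₁ hv₂ hnc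
  obtain ⟨hwiso, -⟩ := iso_of_line hv₁ hv₂ hv12 hv12'
  refine ⟨v₁ + polar Q v₁ v₂ • v₂, hwiso, ?_, fun v hv hvx => ?_⟩
  · rw [polar_add_right, p_smul_right, p_comm x₀ v₁, p_comm x₀ v₂, hv₁x, hv₂x, mul_zero, add_zero]
  have hyx : p v ∈ dperp D (p x₀) := (hM.dperp_iff hx₀ hv).2 (by rw [p_comm]; exact hvx)
  obtain ⟨z, hz, hez⟩ := hq.surj (p v) hyx
  have hzu : polar Q z u = 0 := by
    rw [p_comm]
    refine (hq.dperp_iff hu hz).1 ?_
    rw [hez, show q u = d from hqu]
    exact hM.mem v hv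
  have e₃ : p (rfl' Q v₁ v₂) = q (rfl' Q z₁ (z₁ + ω)) := by
    rw [← hM.conj v₁ v₂ hv₁ hv₂, ← hq.conj _ _ hz₁ hz₂, e₁, e₂]
  rw [← hez, hiff z hz hzu, hM.line_test hv₁ hv₂ hv12 hv, e₁, e₂, e₃, ← hez,
    ← hq.line_test hz₁ hz₂ (by rw [hz12]; decide) hz, hz12,
    show z₁ + (2 : ZMod 3) • (z₁ + ω) = (3 : ZMod 3) • z₁ + (2 : ZMod 3) • ω by module,
    show (3 : ZMod 3) = 0 from rfl, zero_smul, zero_add, p_smul_right, mul_eq_zero,
    or_iff_right (by decide : (2 : ZMod 3) ≠ 0)]

/-- Two members not commuting with `d` that commute with the same members commuting with `d` and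
`p x`, and with `p x`, agree up to `d`. -/
theorem eq_or_flip {x₀ : V} (hx₀ : One Q x₀) {c c' : G} (hc : c ∈ D) (hc' : c' ∈ D)
    (hdc : ¬ Commute d c) (hdc' : ¬ Commute d c') (hcx : Commute c (p x₀))
    (hcx' : Commute c' (p x₀))
    (h : ∀ v, One Q v → polar Q v x₀ = 0 → (Commute c (p v) ↔ Commute c' (p v))) :
    c' = c ∨ c' = d * c * d := by
  obtain ⟨g, hg⟩ := class_isConj hH.cls hM.base (hM.memD hx₀)
  have hq := hM.move hH g
  rw [hg] at hq
  obtain ⟨u, hu, hqu⟩ := hq.surj d ⟨hM.base, fun h => (hM.mem x₀ hx₀).2.1 h.symm,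
    (hM.commute_d hx₀).symm⟩
  obtain ⟨w, hw, huw, he, hiff⟩ := view hq hu hqu
    ⟨hc, fun h => hdc (h ▸ hM.commute_d hx₀), hcx.symm⟩ hdc
  obtain ⟨w', hw', huw', he', hiff'⟩ := view hq hu hqu
    ⟨hc', fun h => hdc' (h ▸ hM.commute_d hx₀), hcx'.symm⟩ hdc'
  have hpm : Pm w' w := pm_of_sub hS hu hw hw' huw huw' fun z hz hzu hzw => by
    obtain ⟨v, hv, hvx, hv'⟩ := hM.exists_orth hx₀
      (by rw [← hqu]; exact (hq.dperp_iff hu hz).2 (by rw [p_comm]; exact hzu)) (hq.mem z hz)
    have h1 := (hiff z hz hzu).2 hzw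
    rw [← hv'] at h1
    have h2 := (h v hv hvx).1 h1
    rw [hv'] at h2
    exact (hiff' z hz hzu).1 h2
  rcases hpm with rfl | rfl
  · exact Or.inl (he'.symm.trans he)
  · right
    have hwu : One Q (w + -u) := by
      rw [One, q_add, q_neg, hw.2, hu, polar_neg_right, p_comm, huw]; decide
    rw [← he', ← he, ← hqu, hq.conj u _ hu hwu, rfl', polar_add_left, polar_neg_left, p_comm w u,
      huw, p_self_one hu, zero_add]
    refine hq.of_pm (One.of_pm (Q := Q) (v := w + u) ?_ ?_) ?_
    · rw [One, q_add, hw.2, hu, p_comm, huw]; decide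
    · refine Or.inl ?_
      rw [neg_smul, two_smul]; abel
    · refine Or.inr ?_
      rw [neg_smul, two_smul]; abel

end View

end Cfsg.Agent.FischerThm.Refl
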