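import Cfsg.Agent.FischerThm.Refl.Model
import Cfsg.Agent.FischerThm.Refl.Coord

/-!
# The common partners of two non-commuting members lie in a hyperplane

For `c` not commuting with `d` there is an isotropic vector orthogonal to all common partners; a
common partner and a member commuting with `d` orthogonal to it and to the vector is again one.
-/

set_option autoImplicit false

namespace Cfsg.Agent.FischerThm.Refl

open Module QuadraticMap Cfsg
open Cfsg.Agent.ThreeTrans (dperp class_conj class_isConj commute_conj)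

variable {G : Type*} [Group G] {D : Set G} {V : Type*} [AddCommGroup V] [Module (ZMod 3) V]
  {Q : QuadraticForm (ZMod 3) V} {d : G} {p : V → G}

/-- `w` gives the common partners orthogonal to `x`. -/
structure Dir (Q : QuadraticForm (ZMod 3) V) (p : V → G) (c : G) (x w : V) : Prop where
  one : One Q x
  com : Commute c (p x)
  iso : Iso Q w
  orth : polar Q x w = 0
  iff : ∀ v, One Q v → polar Q v x = 0 → (Commute c (p v) ↔ polar Q v w = 0)

theorem Dir.of_pm {c : G} {x w w' : V} (h : Dir Q p c x w) (hp : Pm w' w) : Dir Q p c x w' := by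
  refine ⟨h.one, h.com, ?_, (pm_polar_zero hp x).2 h.orth, fun v hv hvx => ?_⟩
  · rcases hp with rfl | rfl
    exacts [h.iso, h.iso.neg]
  · rw [h.iff v hv hvx, pm_polar_zero hp v]

variable (hH : Hyp D) (hM : Model D d Q p) (hS : Sp Q) {c : G} (hc : c ∈ D) (hdc : ¬ Commute d c)

section
include hH hM hS hc hdc

omit hS hc hdc in
theorem commute_flip_iff {v : V} (hv : One Q v) :
    Commute (d * c * d) (p v) ↔ Commute c (p v) := by
  have hd := hM.base
  conv_lhs => rw [← ThreeTrans.conj_self_of_commute hH.cls.1 hd (hM.commute_d hv),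
    ThreeTrans.conj_involution hH.cls.1 hd, ThreeTrans.conj_involution hH.cls.1 hd]
  exact commute_conj d c (p v)

theorem exists_dir' {x : V} (hx : One Q x) (hcx : Commute c (p x)) : ∃ w, Dir Q p c x w := by
  obtain ⟨w, hw, hxw, hiff⟩ := exists_dir hH hM hS hx hc hdc hcx
  exact ⟨w, hx, hcx, hw, hxw, hiff⟩

omit hH hM hc hdc in
/-- Two orthogonal common partners with orthogonal directions have one direction. -/
theorem dir_eq_of_orth {x y w w' : V} (h : Dir Q p c x w) (h' : Dir Q p c y w')
    (hxy : polar Q x y = 0) (hww : polar Q w w' = 0) : Pm w' w := by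
  have hyw : polar Q y w = 0 := (h.iff y h'.one (by rw [p_comm]; exact hxy)).1 h'.com
  have hxw' : polar Q x w' = 0 := (h'.iff x h.one hxy).1 h.com
  refine (pm_or_indep h'.one h.iso h'.iso hyw h'.orth).resolve_right fun hind => ?_
  obtain ⟨v₀, a1, a2, a3, a4⟩ := exists_polar_eq₄ hS (u₁ := x) (u₂ := y) (u₃ := w) (u₄ := w')
    (fun a b e f heq => by
      have ha : a = 0 := by
        have h3 := congrArg (fun u => polar Q x u) heq
        simp only [polar_add_right, p_smul_right, p_self_one h.one, hxy, h.orth, hxw', mul_zero,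
          add_zero, p_zero_right] at h3
        exact (mul_eq_zero.1 h3).resolve_right (by decide)
      subst ha
      rw [zero_smul, zero_add] at heq
      exact ⟨rfl, hind b e f heq⟩) 0 0 0 1
  obtain ⟨k, hk⟩ := exists_adjust (Q := Q) v₀ w' h'.iso.2 (by rw [a4]; exact one_ne_zero) 1
  have e1 : polar Q (v₀ + k • w') x = 0 := by
    rw [polar_add_left, p_smul_left, p_comm w' x, hxw', a1, mul_zero, add_zero]
  have e2 : polar Q (v₀ + k • w') y = 0 := by
    rw [polar_add_left, p_smul_left, p_comm w' y, h'.orth, a2, mul_zero, add_zero]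
  have e3 : polar Q (v₀ + k • w') w = 0 := by
    rw [polar_add_left, p_smul_left, p_comm w' w, hww, a3, mul_zero, add_zero]
  have h4 := (h'.iff _ hk e2).1 ((h.iff _ hk e1).2 e3)
  rw [polar_add_left, p_smul_left, p_self_iso h'.iso.2, a4, mul_zero, add_zero] at h4
  exact one_ne_zero h4

omit hH hc hdc hS in
/-- Common partners are closed under their reflections. -/
theorem com_rfl {a b : V} (ha : One Q a) (hb : One Q b) (hca : Commute c (p a))
    (hcb : Commute c (p b)) : Commute c (p (rfl' Q a b)) := by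
  rw [← hM.conj a b ha hb]
  exact (hca.mul_right hcb).mul_right hca

/-- The configuration of two orthogonal common partners with different directions is impossible. -/
theorem five_absurd (L : (Fin 5 → ZMod 3) ≃ₗ[ZMod 3] V)
    (hQL : ∀ a, Q (L a) = qd sig5 a) (hbL : ∀ a b, polar Q (L a) (L b) = bd sig5 a b)
    (hx : Dir Q p c (L (ten 0)) (L ![0, 0, 2, 2, 0]))
    (hy : Dir Q p c (L (ten 1)) (L ![0, 0, 2, 1, 0])) : False := by
  have hone : ∀ i, One Q (L (ten i)) := fun i => (hQL _).trans (ten_one i)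
  have hrd : ∀ v u, rfl' Q (L v) (L u) = L (rd sig5 v u) := fun v u => by
    rw [rfl', hbL, ← map_smul, ← map_sub]
    rfl
  -- the ten vectors give common partners
  have htr : ∀ {a b v : Fin 5 → ZMod 3}, Dir Q p c (L a) (L b) → qd sig5 v = 1 →
      bd sig5 v a = 0 → bd sig5 v b = 0 → Commute c (p (L v)) := fun h h1 h2 h3 =>
    (h.iff _ ((hQL _).trans h1) ((hbL _ _).trans h2)).2 ((hbL _ _).trans h3)
  have c2 : Commute c (p (L (ten 2))) := htr hy (ten_one 2) (by decide +kernel) (by decide +kernel)
  have c3 : Commute c (p (L (ten 3))) := htr hy (ten_one 3) (by decide +kernel) (by decide +kernel)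
  have c4 : Commute c (p (L (ten 4))) := htr hx (ten_one 4) (by decide +kernel) (by decide +kernel)
  have c5 : Commute c (p (L (ten 5))) := htr hx (ten_one 5) (by decide +kernel) (by decide +kernel)
  have hprod : ∀ {i j k}, Commute c (p (L (ten i))) → Commute c (p (L (ten j))) →
      (rd sig5 (ten i) (ten j) = ten k ∨ rd sig5 (ten i) (ten j) = -ten k) →
      Commute c (p (L (ten k))) := by
    intro i j k hi hj he
    have h := com_rfl hM (hone i) (hone j) hi hj
    rw [hrd] at h
    rwa [hM.of_pm (hone k) (show Pm (L (rd sig5 (ten i) (ten j))) (L (ten k)) from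
      he.imp (fun e => by rw [e]) (fun e => by rw [e, map_neg]))] at h
  have hall : ∀ i, Commute c (p (L (ten i))) := by
    intro i
    fin_cases i
    exacts [hx.com, hy.com, c2, c3, c4, c5, hprod c2 c4 (by decide +kernel),
      hprod c2 c5 (by decide +kernel), hprod c3 c4 (by decide +kernel),
      hprod c3 c5 (by decide +kernel)]
  -- and no others
  have honly : ∀ b, qd sig5 b = 1 → Commute c (p (L b)) → InTen b := by
    intro b hb hcb
    have he : b = ![b 0, b 1, b 2, b 3, b 4] := by funext j; fin_cases j <;> rfl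
    rw [he] at hb hcb ⊢
    rcases ten_cover _ _ _ _ _ hb with h | ⟨i, hi⟩
    · exact h
    obtain ⟨w, hw⟩ := exists_dir' hH hM hS hc hdc (hone i) (hall i)
    obtain ⟨a, rfl⟩ := L.surjective w
    have hea : a = ![a 0, a 1, a 2, a 3, a 4] := by funext j; fin_cases j <;> rfl
    rw [hea] at hw
    exact ten_local i (a 0) (a 1) (a 2) (a 3) (a 4) (fun h => hw.iso.1 (by rw [h, map_zero]))
      ((hQL _).symm.trans hw.iso.2) ((hbL _ _).symm.trans hw.orth)
      (fun j hj => (hbL _ _).symm.trans ((hw.iff _ (hone j)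
        (by rw [p_comm, hbL]; exact hj)).1 (hall j)))
      _ _ _ _ _ hb (by rw [← hbL, p_comm, hbL]; exact hi)
      ((hbL _ _).symm.trans ((hw.iff _ ((hQL _).trans hb) ((hbL _ _).trans hi)).1 hcb))
  -- a motion fixing the first line moves the ten
  set r : Fin 3 → V := fun i => L (word i) with hr
  have hr1 : ∀ i, One Q (r i) := fun i => (hQL _).trans (word_one i)
  set γ : G := p (r 2) * p (r 1) * p (r 0) with hγ
  have hconj : ∀ a v, One Q a → One Q v → p a * p v * (p a)⁻¹ = p (rfl' Q a v) := fun a v ha hv => by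
    rw [inv_self hH (hM.memD ha), hM.conj a v ha hv]
  have hγv : ∀ v, One Q v →
      γ * p v * γ⁻¹ = p (rfl' Q (r 2) (rfl' Q (r 1) (rfl' Q (r 0) v))) := fun v hv => by
    rw [← hconj _ _ (hr1 2) ((q_rfl' (hr1 1) _).trans ((q_rfl' (hr1 0) _).trans hv)),
      ← hconj _ _ (hr1 1) ((q_rfl' (hr1 0) _).trans hv), ← hconj _ _ (hr1 0) hv, hγ]
    group
  have hγd : γ * d * γ⁻¹ = d := by
    have h : Commute γ d :=
      ((hM.commute_d (hr1 2)).symm.mul_left (hM.commute_d (hr1 1)).symm).mul_left
        (hM.commute_d (hr1 0)).symm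
    rw [h.eq, mul_inv_cancel_right]
  set c' := γ * c * γ⁻¹
  have hdc' : ¬ Commute d c' := by
    rw [← hγd, commute_conj]; exact hdc
  have hback : ∀ v, rfl' Q (r 2) (rfl' Q (r 1) (rfl' Q (r 0)
      (rfl' Q (r 0) (rfl' Q (r 1) (rfl' Q (r 2) v))))) = v := fun v => by
    rw [rfl'_rfl' (hr1 0), rfl'_rfl' (hr1 1), rfl'_rfl' (hr1 2)]
  have hGx : rfl' Q (r 2) (rfl' Q (r 1) (rfl' Q (r 0) (L (ten 0)))) = -L (ten 0) := by
    simp only [hr, hrd, word_x, map_neg]
  have hGw : rfl' Q (r 2) (rfl' Q (r 1) (rfl' Q (r 0) (L ![0, 0, 2, 2, 0]))) =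
      L ![0, 0, 2, 2, 0] := by
    simp only [hr, hrd, word_w]
  have hpull : ∀ v u, polar Q (rfl' Q (r 0) (rfl' Q (r 1) (rfl' Q (r 2) v))) u =
      polar Q v (rfl' Q (r 2) (rfl' Q (r 1) (rfl' Q (r 0) u))) := fun v u => by
    rw [← polar_rfl' (hr1 0), ← polar_rfl' (hr1 1), ← polar_rfl' (hr1 2), hback]
  have hcx' : Commute c' (p (L (ten 0))) := by
    rw [← hM.neg (hone 0), ← hGx, ← hγv _ (hone 0), commute_conj]
    exact hx.com
  have hsame : ∀ v, One Q v → polar Q v (L (ten 0)) = 0 →
      (Commute c (p v) ↔ Commute c' (p v)) := by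
    intro v hv hvx
    have hu : One Q (rfl' Q (r 0) (rfl' Q (r 1) (rfl' Q (r 2) v))) :=
      (q_rfl' (hr1 0) _).trans ((q_rfl' (hr1 1) _).trans ((q_rfl' (hr1 2) _).trans hv))
    have h2 : Commute c' (p v) ↔ Commute c (p (rfl' Q (r 0) (rfl' Q (r 1) (rfl' Q (r 2) v)))) := by
      conv_lhs => rw [← hback v, ← hγv _ hu]
      exact commute_conj γ c _
    rw [h2, hx.iff v hv hvx, hx.iff _ hu (by rw [hpull, hGx, polar_neg_right, hvx, neg_zero]),
      hpull, hGw]
  have hc' : c' ∈ D := class_conj hH.cls γ c hc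
  have hout : Commute c (p (L (rd sig5 (word 2) (rd sig5 (word 1) (rd sig5 (word 0) (ten 3)))))) := by
    have h1 : Commute c' (γ * p (L (ten 3)) * γ⁻¹) := (commute_conj γ c _).2 (hall 3)
    rw [hγv _ (hone 3)] at h1
    simp only [hr, hrd] at h1
    rcases eq_or_flip hH hM hS hx.one hc hc' hdc hdc' hx.com hcx' hsame with h | h
    · rwa [h] at h1
    · rw [h] at h1
      refine (commute_flip_iff hH hM ?_).1 h1
      rw [One, ← hrd, ← hrd, ← hrd, q_rfl' ((hQL _).trans (word_one 2)),
        q_rfl' ((hQL _).trans (word_one 1)), q_rfl' ((hQL _).trans (word_one 0))]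
      exact hone 3
  refine word_out (honly _ ?_ hout)
  rw [← hQL, ← hrd, ← hrd, ← hrd, q_rfl' ((hQL _).trans (word_one 2)),
    q_rfl' ((hQL _).trans (word_one 1)), q_rfl' ((hQL _).trans (word_one 0))]
  exact hone 3

omit hH hM hS hc hdc in
/-- Isotropic vectors with product one give two orthogonal anisotropic ones. -/
theorem pair_facts {w s : V} (hw : Q w = 0) (hs : Q s = 0) (hws : polar Q w s = 1) :
    Q (w + s) = 1 ∧ Q (w + -s) = -1 ∧ polar Q (w + s) (w + -s) = 0 ∧
      ∀ u, polar Q u (w + s) = 0 → polar Q u (w + -s) = 0 → polar Q u w = 0 := by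
  refine ⟨by rw [q_add, hw, hs, hws]; decide,
    by rw [q_add, q_neg, hw, hs, polar_neg_right, hws]; decide, ?_, fun u h1 h2 => ?_⟩
  · rw [polar_add_left, polar_add_right, polar_add_right, polar_neg_right, polar_neg_right,
      p_self_iso hw, p_self_iso hs, p_comm s w, hws]
    decide
  · rw [polar_add_right] at h1
    rw [polar_add_right, polar_neg_right] at h2
    generalize polar Q u w = α at h1 h2 ⊢
    generalize polar Q u s = γ at h1 h2
    revert α γ
    decide

/-- Orthogonal common partners have the same direction. -/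
theorem dir_eq {x y w w' : V} (h : Dir Q p c x w) (h' : Dir Q p c y w')
    (hxy : polar Q x y = 0) : Pm w' w := by
  by_contra hne
  have hww : polar Q w w' ≠ 0 := fun h0 => hne (dir_eq_of_orth hS h h' hxy h0)
  have hyw : polar Q y w = 0 := (h.iff y h'.one (by rw [p_comm]; exact hxy)).1 h'.com
  -- a common orthogonal norm-one vector decides
  have hkey : ∀ u, One Q u → polar Q u x = 0 → polar Q u y = 0 → polar Q u w ≠ 0 := by
    intro u hu hux huy huw
    have h1 : One Q (u + w) := by rw [One, q_add, hu, h.iso.2, huw]; decide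
    have h1x : polar Q (u + w) x = 0 := by rw [polar_add_left, hux, p_comm w x, h.orth, add_zero]
    have h1y : polar Q (u + w) y = 0 := by rw [polar_add_left, huy, p_comm w y, hyw, add_zero]
    have h2 := (h'.iff _ h1 h1y).1 ((h.iff _ h1 h1x).2
      (by rw [polar_add_left, huw, p_self_iso h.iso.2, add_zero]))
    rw [polar_add_left, (h'.iff u hu huy).1 ((h.iff u hu hux).2 huw), zero_add] at h2
    exact hww h2
  obtain ⟨v, hvpm, hv1⟩ : ∃ v, Pm v w' ∧ polar Q w v = 1 := by
    rcases z3_cases (polar Q w w') with h0 | h0 | h0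
    · exact absurd h0 hww
    · exact ⟨w', Pm.refl _, h0⟩
    · exact ⟨-w', Pm.neg_left _, by rw [polar_neg_right, h0, neg_neg]⟩
  have h'' := h'.of_pm hvpm
  have hxv : polar Q x v = 0 := (h''.iff x h.one hxy).1 h.com
  obtain ⟨e1, e2, e3, e4⟩ := pair_facts h.iso.2 h''.iso.2 hv1
  have hfp : ∀ i j : Fin 4, i ≠ j →
      polar Q (![x, y, w + v, w + -v] i) (![x, y, w + v, w + -v] j) = 0 := by
    have a1 : polar Q x (w + v) = 0 := by rw [polar_add_right, h.orth, hxv, add_zero]
    have a2 : polar Q x (w + -v) = 0 := by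
      rw [polar_add_right, polar_neg_right, h.orth, hxv, neg_zero, add_zero]
    have a3 : polar Q y (w + v) = 0 := by rw [polar_add_right, hyw, h''.orth, add_zero]
    have a4 : polar Q y (w + -v) = 0 := by
      rw [polar_add_right, polar_neg_right, hyw, h''.orth, neg_zero, add_zero]
    intro i j hij
    fin_cases i <;> fin_cases j
    all_goals first
      | exact absurd rfl hij
      | exact hxy | exact a1 | exact a2 | exact a3 | exact a4 | exact e3
      | (rw [p_comm]; exact hxy) | (rw [p_comm]; exact a1) | (rw [p_comm]; exact a2)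
      | (rw [p_comm]; exact a3) | (rw [p_comm]; exact a4) | (rw [p_comm]; exact e3)
  have hf0 : ∀ i : Fin 4, Q (![x, y, w + v, w + -v] i) ≠ 0 := by
    intro i
    fin_cases i
    · show Q x ≠ 0; rw [h.one]; exact one_ne_zero
    · show Q y ≠ 0; rw [h'.one]; exact one_ne_zero
    · show Q (w + v) ≠ 0; rw [e1]; exact one_ne_zero
    · show Q (w + -v) ≠ 0; rw [e2]; decide
  have := hS.fin
  rcases Nat.lt_or_ge (finrank (ZMod 3) V) 6 with hn | hn
  swap
  · obtain ⟨u, hu, hup⟩ := exists_one_perp hS _ (by omega) hf0 hfp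
    exact hkey u hu (hup 0) (hup 1) (e4 u (hup 2) (hup 3))
  have hn5 : finrank (ZMod 3) V = 5 := by have := hS.dim; omega
  obtain ⟨t, ht, ht0⟩ := Cfsg.Agent.S5357.exists_aniso hS.nd _ (by omega) hf0 hfp
  rcases z3_cases (Q t) with h0 | h0 | h0
  · exact ht0 h0
  · exact hkey t h0 (ht 0) (ht 1) (e4 t (ht 2) (ht 3))
  have t0 : polar Q t x = 0 := ht 0
  have t1 : polar Q t y = 0 := ht 1
  have t2 : polar Q t (w + v) = 0 := ht 2
  have t3 : polar Q t (w + -v) = 0 := ht 3
  obtain ⟨L, hL, hbL, hQL⟩ := exists_coord (Q := Q) hn5 ![x, y, w + v, w + -v, t] sig5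
    (fun i => by
      fin_cases i
      exacts [h.one, h'.one, e1, e2, h0])
    (by decide)
    (fun i j hij => by
      fin_cases i <;> fin_cases j
      all_goals first
        | exact absurd rfl hij
        | exact hfp 0 1 (by decide) | exact hfp 0 2 (by decide) | exact hfp 0 3 (by decide)
        | exact hfp 1 0 (by decide) | exact hfp 1 2 (by decide) | exact hfp 1 3 (by decide)
        | exact hfp 2 0 (by decide) | exact hfp 2 1 (by decide) | exact hfp 2 3 (by decide)
        | exact hfp 3 0 (by decide) | exact hfp 3 1 (by decide) | exact hfp 3 2 (by decide)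
        | exact t0 | exact t1 | exact t2 | exact t3
        | (rw [p_comm]; exact t0) | (rw [p_comm]; exact t1)
        | (rw [p_comm]; exact t2) | (rw [p_comm]; exact t3))
  have hx : L (ten 0) = x := by
    rw [show ten 0 = Pi.single (0 : Fin 5) 1 by decide +kernel]
    exact hL 0
  have hy : L (ten 1) = y := by
    rw [show ten 1 = Pi.single (1 : Fin 5) 1 by decide +kernel]
    exact hL 1
  have hlw : L ![0, 0, 2, 2, 0] = w := by
    rw [show (![0, 0, 2, 2, 0] : Fin 5 → ZMod 3) =
      (2 : ZMod 3) • (Pi.single 2 1 + Pi.single 3 1) by decide +kernel, map_smul, map_add, hL 2, hL 3]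
    show (2 : ZMod 3) • (w + v + (w + -v)) = w
    rw [show (2 : ZMod 3) • (w + v + (w + -v)) = ((2 : ZMod 3) * 2) • w by module,
      show ((2 : ZMod 3) * 2) = 1 by decide, one_smul]
  have hlv : L ![0, 0, 2, 1, 0] = v := by
    rw [show (![0, 0, 2, 1, 0] : Fin 5 → ZMod 3) =
      (2 : ZMod 3) • (Pi.single 2 1 + (-1 : ZMod 3) • Pi.single 3 1) by decide +kernel,
      map_smul, map_add, map_smul, hL 2, hL 3]
    show (2 : ZMod 3) • (w + v + (-1 : ZMod 3) • (w + -v)) = v
    rw [show (2 : ZMod 3) • (w + v + (-1 : ZMod 3) • (w + -v)) = ((2 : ZMod 3) * 2) • v by module,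
      show ((2 : ZMod 3) * 2) = 1 by decide, one_smul]
  exact five_absurd hH hM hS hc hdc L hQL hbL (by rw [hx, hlw]; exact h) (by rw [hy, hlv]; exact h'')

/-- Translates along the direction are again common partners, with the same direction. -/
theorem dir_translate {x w : V} (h : Dir Q p c x w) (j : ZMod 3) : Dir Q p c (x + j • w) w := by
  obtain ⟨u, hu, hux, huw⟩ := exists_one_perp_iso hS h.one h.iso h.orth
  have hcu := (h.iff u hu hux).2 huw
  obtain ⟨w', hw'⟩ := exists_dir' hH hM hS hc hdc hu hcu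
  have hd' := hw'.of_pm (dir_eq hH hM hS hc hdc h hw' (by rw [p_comm]; exact hux)).symm
  have h1 : One Q (x + j • w) := by rw [One, q_add_smul, h.one, h.orth, h.iso.2]; ring
  have h2 : polar Q (x + j • w) u = 0 := by
    rw [polar_add_left, p_smul_left, p_comm x u, hux, p_comm w u, huw, mul_zero, add_zero]
  have h3 : polar Q (x + j • w) w = 0 := by
    rw [polar_add_left, p_smul_left, h.orth, p_self_iso h.iso.2, mul_zero, add_zero]
  have hc2 := (hd'.iff _ h1 h2).2 h3
  obtain ⟨w'', hw''⟩ := exists_dir' hH hM hS hc hdc h1 hc2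
  exact hw''.of_pm (dir_eq hH hM hS hc hdc hd' hw'' (by rw [p_comm]; exact h2)).symm

/-- All common partners are orthogonal to one direction and share it. -/
theorem dir_all {x w : V} (h : Dir Q p c x w) {z : V} (hz : One Q z) (hcz : Commute c (p z)) :
    Dir Q p c z w := by
  have hperp : ∀ {z : V}, One Q z → Commute c (p z) → polar Q z w = 0 := by
    intro z hz hcz
    by_contra hne
    set j : ZMod 3 := -(polar Q z x * polar Q z w)
    have h1 : polar Q z (x + j • w) = 0 := by
      rw [polar_add_right, p_smul_right]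
      have := z3_sq hne
      linear_combination (-polar Q z x) * this
    exact hne ((((dir_translate hH hM hS hc hdc h j)).iff z hz h1).1 hcz)
  obtain ⟨w', hw'⟩ := exists_dir' hH hM hS hc hdc hz hcz
  refine hw'.of_pm (pm_of_sub hS hz hw'.iso h.iso hw'.orth (hperp hz hcz) fun v hv hvz hvw => ?_)
  exact hperp hv ((hw'.iff v hv hvz).2 hvw)

end

end Cfsg.Agent.FischerThm.Refl
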