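import Cfsg.Agent.FischerThm.Refl.Count

/-!
# The members not commuting with `d` as isotropic vectors

Each of them has an isotropic vector up to sign; two with non-orthogonal vectors determine each
other's sign by commuting or not, and these signs agree around triangles, so they come from one
bijection with the isotropic vectors.
-/

set_option autoImplicit false

namespace Cfsg.Agent.FischerThm.Refl

open Module QuadraticMap Cfsg
open Cfsg.Agent.ThreeTrans (dperp class_conj class_isConj commute_conj)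

variable {G : Type*} [Group G] {D : Set G} {V : Type*} [AddCommGroup V] [Module (ZMod 3) V]
  {Q : QuadraticForm (ZMod 3) V} {d : G} {p : V → G}

/-- The member `c` belongs to the isotropic vector `w` up to sign. -/
structure Pol (D : Set G) (d : G) (Q : QuadraticForm (ZMod 3) V) (p : V → G) (c : G) (w : V) :
    Prop where
  mem : c ∈ aside D d
  iso : Iso Q w
  iff : ∀ v, One Q v → (Commute c (p v) ↔ polar Q v w = 0)

/-- The signs of two members agree. -/
def Ok (Q : QuadraticForm (ZMod 3) V) (c : G) (w : V) (c' : G) (w' : V) : Prop :=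
  Commute c c' ↔ polar Q w w' = 1

theorem Ok.symm {c c' : G} {w w' : V} (h : Ok Q c w c' w') : Ok Q c' w' c w := by
  rw [Ok, Commute.symm_iff, p_comm]; exact h

theorem Pol.of_pm {c : G} {w w' : V} (h : Pol D d Q p c w) (hp : Pm w' w) : Pol D d Q p c w' := by
  refine ⟨h.mem, ?_, fun v hv => ?_⟩
  · rcases hp with rfl | rfl
    exacts [h.iso, h.iso.neg]
  · rw [h.iff v hv, pm_polar_zero hp v]

variable [Finite G] (hH : Hyp D) (hM : Model D d Q p) (hS : Sp Q)

section
include hH hM hS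

theorem exists_pol {c : G} (hc : c ∈ aside D d) : ∃ w, Pol D d Q p c w := by
  obtain ⟨w, hw, h⟩ := exists_polar hH hM hS hc.1 hc.2
  exact ⟨w, hc, hw, h⟩

omit hS in
theorem exists_one_on {c : G} {w : V} (h : Pol D d Q p c w) :
    ∃ x, One Q x ∧ Commute c (p x) := by
  obtain ⟨y, hy, hyc⟩ := ThreeTrans.exists_common hH.sol' hH.perf hH.cls hM.base h.mem.1 h.mem.2
  obtain ⟨x, hx, rfl⟩ := hM.surj y hy
  exact ⟨x, hx, hyc.symm⟩

theorem pol_pm {c : G} {w w' : V} (h : Pol D d Q p c w) (h' : Pol D d Q p c w') : Pm w' w := by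
  obtain ⟨x, hx, hcx⟩ := exists_one_on hH hM h
  exact pm_of_sub hS hx h.iso h'.iso ((h.iff x hx).1 hcx) ((h'.iff x hx).1 hcx)
    fun v hv _ hvw => (h'.iff v hv).1 ((h.iff v hv).2 hvw)

theorem pol_eq_or_flip {c c' : G} {w : V} (h : Pol D d Q p c w) (h' : Pol D d Q p c' w) :
    c' = c ∨ c' = d * c * d := by
  obtain ⟨x, hx, hcx⟩ := exists_one_on hH hM h
  exact eq_or_flip hH hM hS hx h.mem.1 h'.mem.1 h.mem.2 h'.mem.2 hcx
    ((h'.iff x hx).2 ((h.iff x hx).1 hcx)) fun v hv _ => (h.iff v hv).trans (h'.iff v hv).symm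

omit [Finite G] hS in
theorem Pol.flip {c : G} {w : V} (h : Pol D d Q p c w) : Pol D d Q p (d * c * d) w :=
  ⟨flip_mem_aside hH.group hM.base h.mem, h.iso,
    fun v hv => (commute_flip_iff hH hM hv).trans (h.iff v hv)⟩

omit [Finite G] hS in
theorem Pol.conj {c : G} {w v : V} (h : Pol D d Q p c w) (hv : One Q v) :
    Pol D d Q p (p v * c * p v) (rfl' Q v w) := by
  refine ⟨conj_mem_aside hH.group (hM.mem v hv) h.mem, h.iso.rfl' hv, fun u hu => ?_⟩
  have hu' : One Q (rfl' Q v u) := (q_rfl' hv u).trans hu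
  have hback := hM.conj v _ hv hu'
  rw [rfl'_rfl' hv] at hback
  rw [← polar_rfl' hv, rfl'_rfl' hv, ← hback, ← h.iff _ hu',
    ThreeTrans.conj_involution hH.cls.1 (hM.memD hv),
    ThreeTrans.conj_involution hH.cls.1 (hM.memD hv), commute_conj]

omit hS in
/-- The two members with a vector of product one with that of `c`. -/
theorem pol_step {c : G} {w w' : V} (h : Pol D d Q p c w) (hw' : Iso Q w')
    (hb : polar Q w w' = 1) :
    One Q (w + w') ∧ ¬ Commute (p (w + w')) c ∧ Pol D d Q p (nbr d c (p (w + w'))) w' ∧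
      Commute c (nbr d c (p (w + w'))) ∧
      ¬ Commute c (d * nbr d c (p (w + w')) * d) := by
  set v := w + w'
  have hv : One Q v := by rw [One, q_add, h.iso.2, hw'.2, hb]; decide
  have hvw : polar Q v w = 1 := by
    rw [polar_add_left, p_self_iso h.iso.2, p_comm, hb, zero_add]
  have hnc : ¬ Commute (p v) c := fun hh => by
    have := (h.iff v hv).1 hh.symm
    rw [hvw] at this
    exact one_ne_zero this
  have hpol : Pol D d Q p (p v * c * p v) w' :=
    (h.conj hH hM hv).of_pm (by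
      refine Or.inr ?_
      rw [rfl', p_comm, hvw, one_smul]
      show w' = -(w - (w + w'))
      abel)
  refine ⟨hv, hnc, hpol.flip hH hM, (nbr_spec hH.group hM.base h.mem (hM.mem v hv) hnc).2, ?_⟩
  rw [show d * nbr d c (p v) * d = p v * c * p v by
    simp only [nbr, mul_assoc, ThreeTrans.mul_self hH.cls.1 hM.base, mul_one,
      ThreeTrans.mul_self_mul hH.cls.1 hM.base]]
  exact ThreeTrans.commute_conj_mem hH.cls.1 h.mem.1 (hM.memD hv) fun hh => hnc hh.symm

theorem pol_cases {c c' : G} {w w' : V} (h : Pol D d Q p c w) (h' : Pol D d Q p c' w')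
    (hb : polar Q w w' = 1) :
    (c' = nbr d c (p (w + w')) ∧ Commute c c') ∨
      (c' = d * nbr d c (p (w + w')) * d ∧ ¬ Commute c c') := by
  obtain ⟨-, -, hpol, h1, h2⟩ := pol_step hH hM h h'.iso hb
  rcases pol_eq_or_flip hH hM hS hpol h' with e | e
  · exact Or.inl ⟨e, e ▸ h1⟩
  · exact Or.inr ⟨e, e ▸ h2⟩

/-- For non-orthogonal vectors exactly one of a member and its flip commutes. -/
theorem commute_flip_xor {c c' : G} {w w' : V} (h : Pol D d Q p c w) (h' : Pol D d Q p c' w')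
    (hb : polar Q w w' ≠ 0) : Commute c (d * c' * d) ↔ ¬ Commute c c' := by
  obtain ⟨w'', hpm, hb''⟩ : ∃ w'', Pm w'' w' ∧ polar Q w w'' = 1 := by
    rcases z3_cases (polar Q w w') with h0 | h0 | h0
    · exact absurd h0 hb
    · exact ⟨w', Pm.refl _, h0⟩
    · exact ⟨-w', Pm.neg_left _, by rw [polar_neg_right, h0, neg_neg]⟩
  have h'' := h'.of_pm hpm
  obtain ⟨-, -, -, h1, h2⟩ := pol_step hH hM h h''.iso hb''
  rcases pol_cases hH hM hS h h'' hb'' with ⟨e, hc⟩ | ⟨e, hc⟩
  · exact iff_of_false (e ▸ h2) (not_not.2 hc)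
  · refine iff_of_true ?_ hc
    rw [e]
    simp only [mul_assoc, ThreeTrans.mul_self hH.cls.1 hM.base, mul_one,
      ThreeTrans.mul_self_mul hH.cls.1 hM.base]
    exact h1

theorem ok_flip {c c' : G} {w w' : V} (h : Pol D d Q p c w) (h' : Pol D d Q p c' w')
    (hb : polar Q w w' ≠ 0) : Ok Q c w (d * c' * d) (-w') ↔ Ok Q c w c' w' := by
  have hz : ∀ a : ZMod 3, a ≠ 0 → (-a = 1 ↔ ¬ a = 1) := by decide
  rw [Ok, Ok, commute_flip_xor hH hM hS h h' hb, polar_neg_right, hz _ hb, not_iff_not]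

omit hS in
/-- A member with given vector and matching sign. -/
theorem exists_ok {c : G} {w w' : V} (h : Pol D d Q p c w) (hw' : Iso Q w')
    (hb : polar Q w w' ≠ 0) : ∃ c', Pol D d Q p c' w' ∧ Ok Q c w c' w' := by
  rcases z3_cases (polar Q w w') with h0 | h0 | h0
  · exact absurd h0 hb
  · obtain ⟨-, -, hpol, h1, -⟩ := pol_step hH hM h hw' h0
    exact ⟨_, hpol, iff_of_true h1 h0⟩
  · have h0' : polar Q w (-w') = 1 := by rw [polar_neg_right, h0, neg_neg]
    obtain ⟨-, -, hpol, h1, h2⟩ := pol_step hH hM h hw'.neg h0'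
    exact ⟨_, (hpol.flip hH hM).of_pm (Pm.neg_left w').symm,
      iff_of_false h2 (by rw [h0]; decide)⟩

/-- Two members of one vector with the same sign against a third are equal. -/
theorem ok_unique {c c₁ c₂ : G} {w w' : V} (h : Pol D d Q p c w) (h₁ : Pol D d Q p c₁ w')
    (h₂ : Pol D d Q p c₂ w') (hb : polar Q w w' ≠ 0) (o₁ : Ok Q c w c₁ w') (o₂ : Ok Q c w c₂ w') :
    c₂ = c₁ := by
  refine (pol_eq_or_flip hH hM hS h₁ h₂).resolve_right fun e => ?_
  subst e
  rw [Ok, commute_flip_xor hH hM hS h h₁ hb] at o₂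
  rw [Ok] at o₁
  rw [← o₁] at o₂
  exact iff_not_self o₂.symm

theorem triangle_core {c c₁ c₂ : G} {w w₁ w₂ : V} (h : Pol D d Q p c w) (h₁ : Pol D d Q p c₁ w₁)
    (h₂ : Pol D d Q p c₂ w₂) (b₁ : polar Q w w₁ = 1) (b₂ : polar Q w w₂ = 1)
    (b₁₂ : polar Q w₁ w₂ ≠ 0) (o₁ : Ok Q c w c₁ w₁) (o₂ : Ok Q c w c₂ w₂) :
    Ok Q c₁ w₁ c₂ w₂ := by
  obtain ⟨hv₁, hn₁, -, -, -⟩ := pol_step hH hM h h₁.iso b₁
  obtain ⟨hv₂, hn₂, -, -, -⟩ := pol_step hH hM h h₂.iso b₂
  have e₁ := ((pol_cases hH hM hS h h₁ b₁).resolve_right fun hh => hh.2 (o₁.2 b₁)).1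
  have e₂ := ((pol_cases hH hM hS h h₂ b₂).resolve_right fun hh => hh.2 (o₂.2 b₂)).1
  rw [Ok, e₁, e₂, nbr_commute_iff hH.group hM.base h.mem.1 (hM.memD hv₁) (hM.memD hv₂) hn₁ hn₂,
    hM.comm _ _ hv₁ hv₂]
  have hcalc : polar Q (w + w₁) (w + w₂) = 2 + polar Q w₁ w₂ := by
    rw [polar_add_left, polar_add_right, polar_add_right, p_self_iso h.iso.2, b₂, p_comm w₁ w, b₁,
      zero_add, ← add_assoc]
    rfl
  constructor
  · rintro (h0 | h0 | h0)
    · rw [hcalc] at h0
      have h3 : (3 : ZMod 3) = 0 := rfl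
      linear_combination h0 - h3
    · exact absurd (by rw [add_left_cancel h0, p_self_iso h₂.iso.2]) b₁₂
    · have h1 := congrArg (fun u => polar Q w u) h0
      simp only [polar_add_right, polar_neg_right, p_self_iso h.iso.2, b₁, b₂, zero_add] at h1
      exact absurd h1 (by decide)
  · intro h0
    exact Or.inl (by rw [hcalc, h0]; rfl)

/-- Signs agree around triangles. -/
theorem triangle {c c₁ c₂ : G} {w w₁ w₂ : V} (h : Pol D d Q p c w) (h₁ : Pol D d Q p c₁ w₁)
    (h₂ : Pol D d Q p c₂ w₂) (b₁ : polar Q w w₁ ≠ 0) (b₂ : polar Q w w₂ ≠ 0)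
    (b₁₂ : polar Q w₁ w₂ ≠ 0) (o₁ : Ok Q c w c₁ w₁) (o₂ : Ok Q c w c₂ w₂) :
    Ok Q c₁ w₁ c₂ w₂ := by
  have hz : ∀ a : ZMod 3, a ≠ 0 → a ≠ 1 → -a = 1 := by decide
  have n₁ : ∀ {c₁ : G} {w₁ : V}, Pol D d Q p c₁ w₁ → Pol D d Q p (d * c₁ * d) (-w₁) :=
    fun hh => (hh.flip hH hM).of_pm (Pm.neg_left _)
  by_cases a₁ : polar Q w w₁ = 1 <;> by_cases a₂ : polar Q w w₂ = 1
  · exact triangle_core hH hM hS h h₁ h₂ a₁ a₂ b₁₂ o₁ o₂
  · have := triangle_core hH hM hS h h₁ (n₁ h₂) a₁ (by rw [polar_neg_right]; exact hz _ b₂ a₂)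
      (by rwa [polar_neg_right, neg_ne_zero]) o₁ ((ok_flip hH hM hS h h₂ b₂).2 o₂)
    exact (ok_flip hH hM hS h₁ h₂ b₁₂).1 this
  · have := triangle_core hH hM hS h (n₁ h₁) h₂ (by rw [polar_neg_right]; exact hz _ b₁ a₁) a₂
      (by rwa [polar_neg_left, neg_ne_zero]) ((ok_flip hH hM hS h h₁ b₁).2 o₁) o₂
    exact ((ok_flip hH hM hS h₂ h₁ (by rwa [p_comm])).1 this.symm).symm
  · have := triangle_core hH hM hS h (n₁ h₁) (n₁ h₂)
      (by rw [polar_neg_right]; exact hz _ b₁ a₁) (by rw [polar_neg_right]; exact hz _ b₂ a₂)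
      (by rwa [polar_neg_left, polar_neg_right, neg_neg])
      ((ok_flip hH hM hS h h₁ b₁).2 o₁) ((ok_flip hH hM hS h h₂ b₂).2 o₂)
    have h3 := (ok_flip hH hM hS (n₁ h₁) h₂ (by rwa [polar_neg_left, neg_ne_zero])).1 this
    exact ((ok_flip hH hM hS h₂ h₁ (by rwa [p_comm])).1 h3.symm).symm

end

/-! ### Isotropic vectors not orthogonal to given ones -/

section Test

variable {w₀ w : V}
include hS

/-- An isotropic vector with product one with given one. -/
theorem exists_iso_one (h0 : Iso Q w₀) : ∃ t, Iso Q t ∧ polar Q w₀ t = 1 := by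
  obtain ⟨v, hv⟩ := exists_polar_eq₁ hS h0.1 1
  obtain ⟨k, hk⟩ := exists_adjust (Q := Q) v w₀ h0.2 (by rw [hv]; exact one_ne_zero) 0
  have ht : polar Q w₀ (v + k • w₀) = 1 := by
    rw [polar_add_right, p_smul_right, p_self_iso h0.2, p_comm, hv, mul_zero, add_zero]
  exact ⟨_, ⟨fun e => by rw [e, p_zero_right] at ht; exact zero_ne_one ht, hk⟩, ht⟩

omit hS in
theorem iso_indep (h0 : Iso Q w₀) (hw : Iso Q w) (hp : ¬ Pm w w₀) :
    ∀ a b : ZMod 3, a • w₀ + b • w = 0 → a = 0 ∧ b = 0 := by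
  intro a b h
  rcases z3_cases b with rfl | rfl | rfl
  · rw [zero_smul, add_zero, smul_eq_zero] at h
    exact ⟨h.resolve_right h0.1, rfl⟩
  all_goals rcases z3_cases a with rfl | rfl | rfl
  all_goals simp only [one_smul, neg_smul, zero_smul, zero_add, neg_eq_zero] at h
  · exact absurd h hw.1
  · exact absurd (Or.inr (eq_neg_of_add_eq_zero_right h)) hp
  · exact absurd (Or.inl (neg_add_eq_zero.1 h).symm) hp
  · exact absurd h hw.1
  · exact absurd (Or.inl (add_neg_eq_zero.1 h).symm) hp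
  · exact absurd (Or.inr (eq_neg_of_add_eq_zero_left (by rwa [← neg_add, neg_eq_zero, add_comm] at h))) hp

theorem exists_iso_one_one (h0 : Iso Q w₀) (hw : Iso Q w) (hp : ¬ Pm w w₀)
    (hb : polar Q w₀ w = 0) :
    ∃ t, Iso Q t ∧ polar Q w₀ t = 1 ∧ polar Q w t = 1 := by
  obtain ⟨v, a1, a2⟩ := exists_polar_eq₂ hS (iso_indep h0 hw hp) 1 1
  obtain ⟨k, hk⟩ := exists_adjust (Q := Q) v w₀ h0.2 (by rw [a1]; exact one_ne_zero) 0
  have ht : polar Q w₀ (v + k • w₀) = 1 := by
    rw [polar_add_right, p_smul_right, p_self_iso h0.2, p_comm, a1, mul_zero, add_zero]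
  refine ⟨_, ⟨fun e => by rw [e, p_zero_right] at ht; exact zero_ne_one ht, hk⟩, ht, ?_⟩
  rw [polar_add_right, p_smul_right, p_comm w w₀, hb, p_comm w v, a2, mul_zero, add_zero]

theorem exists_iso_three {w' : V} (h0 : Iso Q w₀) (hw : Iso Q w)
    (hb : polar Q w₀ w = 0) (hb' : polar Q w₀ w' = 0) (hww : polar Q w w' ≠ 0) :
    ∃ t, Iso Q t ∧ polar Q w₀ t = 1 ∧ polar Q w t = 1 ∧ polar Q w' t = 1 := by
  have hp : ¬ Pm w w₀ := fun hp => by
    rcases hp with rfl | rfl
    · exact hww hb'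
    · exact hww (by rw [polar_neg_left, hb', neg_zero])
  obtain ⟨v, a1, a2, a3⟩ := exists_polar_eq₃ hS (u₁ := w₀) (u₂ := w) (u₃ := w')
    (fun a b e heq => by
      have he : e = 0 := by
        have h3 := congrArg (fun u => polar Q w u) heq
        simp only [polar_add_right, p_smul_right, p_comm w w₀, hb, p_self_iso hw.2, mul_zero,
          zero_add, p_zero_right] at h3
        exact (mul_eq_zero.1 h3).resolve_right hww
      subst he
      rw [zero_smul, add_zero] at heq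
      obtain ⟨ha, hb⟩ := iso_indep h0 hw hp a b heq
      exact ⟨ha, hb, rfl⟩) 1 1 1
  obtain ⟨k, hk⟩ := exists_adjust (Q := Q) v w₀ h0.2 (by rw [a1]; exact one_ne_zero) 0
  have ht : polar Q w₀ (v + k • w₀) = 1 := by
    rw [polar_add_right, p_smul_right, p_self_iso h0.2, p_comm, a1, mul_zero, add_zero]
  refine ⟨_, ⟨fun e => by rw [e, p_zero_right] at ht; exact zero_ne_one ht, hk⟩, ht, ?_, ?_⟩
  · rw [polar_add_right, p_smul_right, p_comm w w₀, hb, p_comm w v, a2, mul_zero, add_zero]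
  · rw [polar_add_right, p_smul_right, p_comm w' w₀, hb', p_comm w' v, a3, mul_zero, add_zero]

/-- The other type of test vector, not orthogonal to a given one. -/
theorem exists_iso_other {t : V} (h0 : Iso Q w₀) (hw : Iso Q w) (hp : ¬ Pm w w₀)
    (hb : polar Q w₀ w = 0) (ht0 : polar Q w₀ t ≠ 0) (htw : polar Q w t ≠ 0) :
    ∃ t', Iso Q t' ∧ polar Q w₀ t' = 1 ∧
      polar Q w t' = -(polar Q w₀ t * polar Q w t) ∧ polar Q t t' = 1 := by
  set τ := polar Q w₀ t * polar Q w t with hτ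
  have hτ0 : τ ≠ 0 := mul_ne_zero ht0 htw
  obtain ⟨v, a1, a2, a3⟩ := exists_polar_eq₃ hS (u₁ := w₀) (u₂ := w) (u₃ := t)
    (fun a b e heq => by
      have he : e = 0 := by
        have h3 := congrArg (fun u => polar Q w₀ u) heq
        simp only [polar_add_right, p_smul_right, p_self_iso h0.2, hb, mul_zero, zero_add,
          p_zero_right] at h3
        exact (mul_eq_zero.1 h3).resolve_right ht0
      subst he
      rw [zero_smul, add_zero] at heq
      obtain ⟨ha, hb⟩ := iso_indep h0 hw hp a b heq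
      exact ⟨ha, hb, rfl⟩) 1 (-τ) 1
  set u := w + -τ • w₀ with hu
  have hu0 : Q u = 0 := by rw [hu, q_add_smul, hw.2, p_comm, hb, h0.2]; ring
  have hut : polar Q u t = 0 := by
    rw [hu, polar_add_left, p_smul_left, hτ]
    linear_combination (-polar Q w t) * z3_sq ht0
  have huw₀ : polar Q u w₀ = 0 := by
    rw [hu, polar_add_left, p_smul_left, p_comm w w₀, hb, p_self_iso h0.2, mul_zero, add_zero]
  have huw : polar Q u w = 0 := by
    rw [hu, polar_add_left, p_smul_left, hb, p_self_iso hw.2, mul_zero, add_zero]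
  have hvu : polar Q v u ≠ 0 := by
    rw [hu, polar_add_right, p_smul_right, a1, a2]
    generalize τ = σ at hτ0
    revert σ; decide
  obtain ⟨k, hk⟩ := exists_adjust (Q := Q) v u hu0 hvu 0
  have ht : polar Q w₀ (v + k • u) = 1 := by
    rw [polar_add_right, p_smul_right, p_comm w₀ u, huw₀, p_comm, a1, mul_zero, add_zero]
  refine ⟨_, ⟨fun e => by rw [e, p_zero_right] at ht; exact zero_ne_one ht, hk⟩, ht, ?_, ?_⟩
  · rw [polar_add_right, p_smul_right, p_comm w u, huw, p_comm w v, a2, mul_zero, add_zero]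
  · rw [polar_add_right, p_smul_right, p_comm t u, hut, p_comm t v, a3, mul_zero, add_zero]

/-- A test vector not orthogonal to two others of one type. -/
theorem exists_iso_same {t t' : V} (h0 : Iso Q w₀) (hw : Iso Q w) (hp : ¬ Pm w w₀)
    (hb : polar Q w₀ w = 0) (ht0 : polar Q w₀ t ≠ 0) (htw : polar Q w t ≠ 0)
    (ht0' : polar Q w₀ t' ≠ 0)
    (hsame : polar Q w₀ t * polar Q w t = polar Q w₀ t' * polar Q w t') :
    ∃ s, Iso Q s ∧ polar Q w₀ s = 1 ∧ polar Q w s ≠ 0 ∧ polar Q t s ≠ 0 ∧ polar Q t' s ≠ 0 := by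
  set τ := polar Q w₀ t * polar Q w t with hτ
  have hτ0 : τ ≠ 0 := mul_ne_zero ht0 htw
  have hind : ∀ a b e : ZMod 3, a • w₀ + b • w + e • t = 0 → a = 0 ∧ b = 0 ∧ e = 0 := by
    intro a b e heq
    have he : e = 0 := by
      have h3 := congrArg (fun u => polar Q w₀ u) heq
      simp only [polar_add_right, p_smul_right, p_self_iso h0.2, hb, mul_zero, zero_add,
        p_zero_right] at h3
      exact (mul_eq_zero.1 h3).resolve_right ht0
    subst he
    rw [zero_smul, add_zero] at heq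
    obtain ⟨ha, hb⟩ := iso_indep h0 hw hp a b heq
    exact ⟨ha, hb, rfl⟩
  obtain ⟨v, a1, a2, a3, a4⟩ : ∃ v, polar Q v w₀ = 1 ∧ polar Q v w = -τ ∧ polar Q v t ≠ 0 ∧
      polar Q v t' ≠ 0 := by
    by_cases hdep : ∃ a b e : ZMod 3, t' = a • w₀ + b • w + e • t
    · obtain ⟨a, b, e, he⟩ := hdep
      have he0 : e ≠ 0 := fun h => ht0' (by
        rw [he, h, zero_smul, add_zero, polar_add_right, p_smul_right, p_smul_right,
          p_self_iso h0.2, hb, mul_zero, mul_zero, add_zero])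
      obtain ⟨s, hs0, hs⟩ : ∃ s : ZMod 3, s ≠ 0 ∧ a + b * -τ + e * s ≠ 0 := by
        have hz : ∀ A e : ZMod 3, e ≠ 0 → ∃ s : ZMod 3, s ≠ 0 ∧ A + e * s ≠ 0 := by decide
        exact hz _ _ he0
      obtain ⟨v, a1, a2, a3⟩ := exists_polar_eq₃ hS hind 1 (-τ) s
      refine ⟨v, a1, a2, a3 ▸ hs0, ?_⟩
      rwa [he, polar_add_right, polar_add_right, p_smul_right, p_smul_right, p_smul_right, a1, a2,
        a3, mul_one]
    · obtain ⟨v, a1, a2, a3, a4⟩ := exists_polar_eq₄ hS (u₁ := w₀) (u₂ := w) (u₃ := t) (u₄ := t')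
        (fun a b e f heq => by
          have hf : f = 0 := by
            by_contra hf
            refine hdep ⟨-(f * a), -(f * b), -(f * e), ?_⟩
            calc t' = (f * f) • t' := by rw [z3_sq hf, one_smul]
              _ = f • (f • t') := mul_smul f f t'
              _ = f • -(a • w₀ + b • w + e • t) := by rw [eq_neg_of_add_eq_zero_right heq]
              _ = _ := by module
          subst hf
          rw [zero_smul, add_zero] at heq
          obtain ⟨ha, hb, he⟩ := hind a b e heq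
          exact ⟨ha, hb, he, rfl⟩) 1 (-τ) 1 1
      exact ⟨v, a1, a2, a3 ▸ one_ne_zero, a4 ▸ one_ne_zero⟩
  set u := w + -τ • w₀ with hu
  have hu0 : Q u = 0 := by rw [hu, q_add_smul, hw.2, p_comm, hb, h0.2]; ring
  have hut : polar Q u t = 0 := by
    rw [hu, polar_add_left, p_smul_left, hτ]
    linear_combination (-polar Q w t) * z3_sq ht0
  have hut' : polar Q u t' = 0 := by
    rw [hu, polar_add_left, p_smul_left, hsame]
    linear_combination (-polar Q w t') * z3_sq ht0'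
  have huw₀ : polar Q u w₀ = 0 := by
    rw [hu, polar_add_left, p_smul_left, p_comm w w₀, hb, p_self_iso h0.2, mul_zero, add_zero]
  have huw : polar Q u w = 0 := by
    rw [hu, polar_add_left, p_smul_left, hb, p_self_iso hw.2, mul_zero, add_zero]
  have hvu : polar Q v u ≠ 0 := by
    rw [hu, polar_add_right, p_smul_right, a1, a2]
    generalize τ = σ at hτ0
    revert σ; decide
  obtain ⟨k, hk⟩ := exists_adjust (Q := Q) v u hu0 hvu 0
  have key : ∀ y, polar Q u y = 0 → polar Q y (v + k • u) = polar Q v y := fun y hy => by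
    rw [polar_add_right, p_smul_right, p_comm y u, hy, p_comm y v, mul_zero, add_zero]
  have ht : polar Q w₀ (v + k • u) = 1 := (key _ huw₀).trans a1
  exact ⟨_, ⟨fun e => by rw [e, p_zero_right] at ht; exact zero_ne_one ht, hk⟩, ht,
    by rw [key _ huw, a2]; exact neg_ne_zero.2 hτ0, by rw [key _ hut]; exact a3,
    by rw [key _ hut']; exact a4⟩

end Test

/-! ### The bijection -/

/-- `c` has vector `w` with the sign fixed by `c₀`. -/
def Good (D : Set G) (d : G) (Q : QuadraticForm (ZMod 3) V) (p : V → G) (c₀ : G) (w₀ w : V)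
    (c : G) : Prop :=
  Pol D d Q p c w ∧ ∀ t ct, polar Q w₀ t ≠ 0 → polar Q w t ≠ 0 → Pol D d Q p ct t →
    Ok Q c₀ w₀ ct t → Ok Q c w ct t

section
include hH hM hS

/-- The choice of sign does not depend on the test vector. -/
theorem test_indep {c₀ c ct ct' : G} {w₀ w t t' : V} (h0 : Pol D d Q p c₀ w₀)
    (hc : Pol D d Q p c w) (hp : ¬ Pm w w₀) (hb : polar Q w₀ w = 0)
    (hct : Pol D d Q p ct t) (hct' : Pol D d Q p ct' t') (ht0 : polar Q w₀ t ≠ 0)
    (htw : polar Q w t ≠ 0) (ht0' : polar Q w₀ t' ≠ 0) (htw' : polar Q w t' ≠ 0)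
    (ok : Ok Q c₀ w₀ ct t) (ok' : Ok Q c₀ w₀ ct' t') (h : Ok Q c w ct t) : Ok Q c w ct' t' := by
  have edge : ∀ {t t' : V} {ct ct' : G}, Pol D d Q p ct t → Pol D d Q p ct' t' →
      polar Q w₀ t ≠ 0 → polar Q w t ≠ 0 → polar Q w₀ t' ≠ 0 → polar Q w t' ≠ 0 →
      polar Q t t' ≠ 0 → Ok Q c₀ w₀ ct t → Ok Q c₀ w₀ ct' t' → Ok Q c w ct t →
      Ok Q c w ct' t' := by
    intro t t' ct ct' hct hct' a b a' b' htt o o' hh
    exact triangle hH hM hS hct hc hct' (by rwa [p_comm]) htt b' hh.symm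
      (triangle hH hM hS h0 hct hct' a a' htt o o')
  have same : ∀ {t t' : V} {ct ct' : G}, Pol D d Q p ct t → Pol D d Q p ct' t' →
      polar Q w₀ t ≠ 0 → polar Q w t ≠ 0 → polar Q w₀ t' ≠ 0 → polar Q w t' ≠ 0 →
      polar Q w₀ t * polar Q w t = polar Q w₀ t' * polar Q w t' →
      Ok Q c₀ w₀ ct t → Ok Q c₀ w₀ ct' t' → Ok Q c w ct t → Ok Q c w ct' t' := by
    intro t t' ct ct' hct hct' a b a' b' heq o o' hh
    obtain ⟨s, hs, s0, sw, st, st'⟩ := exists_iso_same hS h0.iso hc.iso hp hb a b a' heq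
    obtain ⟨cs, hcs, os⟩ := exists_ok hH hM h0 hs (by rw [s0]; exact one_ne_zero)
    have h1 := edge hct hcs a b (by rw [s0]; exact one_ne_zero) sw st o os hh
    exact edge hcs hct' (by rw [s0]; exact one_ne_zero) sw a' b' (by rwa [p_comm]) os o' h1
  by_cases heq : polar Q w₀ t * polar Q w t = polar Q w₀ t' * polar Q w t'
  · exact same hct hct' ht0 htw ht0' htw' heq ok ok' h
  obtain ⟨t₁, ht₁, b0, bw, bt⟩ := exists_iso_other hS h0.iso hc.iso hp hb ht0 htw
  obtain ⟨c₁, hc₁, o₁⟩ := exists_ok hH hM h0 ht₁ (by rw [b0]; exact one_ne_zero)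
  have bw' : polar Q w t₁ ≠ 0 := by rw [bw]; exact neg_ne_zero.2 (mul_ne_zero ht0 htw)
  have h1 := edge hct hc₁ ht0 htw (by rw [b0]; exact one_ne_zero) bw'
    (by rw [bt]; exact one_ne_zero) ok o₁ h
  refine same hc₁ hct' (by rw [b0]; exact one_ne_zero) bw' ht0' htw' ?_ o₁ ok' h1
  rw [b0, one_mul, bw]
  have hz : ∀ a b : ZMod 3, a ≠ 0 → b ≠ 0 → a ≠ b → -a = b := by decide
  exact hz _ _ (mul_ne_zero ht0 htw) (mul_ne_zero ht0' htw') heq

theorem exists_good {c₀ : G} {w₀ : V} (h0 : Pol D d Q p c₀ w₀) {w : V} (hw : Iso Q w) :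
    ∃ c, Good D d Q p c₀ w₀ w c := by
  by_cases hb : polar Q w₀ w = 0
  swap
  · obtain ⟨c, hc, hok⟩ := exists_ok hH hM h0 hw hb
    exact ⟨c, hc, fun t ct ht0 htw hct ok => triangle hH hM hS h0 hc hct hb ht0 htw hok ok⟩
  by_cases hp : Pm w w₀
  · rcases hp with rfl | rfl
    · exact ⟨c₀, h0, fun t ct _ _ _ ok => ok⟩
    · refine ⟨d * c₀ * d, (h0.flip hH hM).of_pm (Pm.neg_left _), fun t ct ht0 _ hct ok => ?_⟩
      exact ((ok_flip hH hM hS hct h0 (by rwa [p_comm])).2 ok.symm).symm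
  obtain ⟨t, ht, ht0, htw⟩ := exists_iso_one_one hS h0.iso hw hp hb
  have ht0' : polar Q w₀ t ≠ 0 := by rw [ht0]; exact one_ne_zero
  have htw' : polar Q w t ≠ 0 := by rw [htw]; exact one_ne_zero
  obtain ⟨ct, hct, ok⟩ := exists_ok hH hM h0 ht ht0'
  obtain ⟨c, hc, hok⟩ := exists_ok hH hM hct hw (by rw [p_comm]; exact htw')
  exact ⟨c, hc, fun t' ct' a b hct' ok' =>
    test_indep hH hM hS h0 hc hp hb hct hct' ht0' htw' a b ok ok' hok.symm⟩

theorem exists_test {c₀ : G} {w₀ : V} (h0 : Pol D d Q p c₀ w₀) {w : V} (hw : Iso Q w) :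
    ∃ t ct, polar Q w₀ t ≠ 0 ∧ polar Q w t ≠ 0 ∧ Pol D d Q p ct t ∧ Ok Q c₀ w₀ ct t := by
  obtain ⟨t, ht, a, b⟩ : ∃ t, Iso Q t ∧ polar Q w₀ t ≠ 0 ∧ polar Q w t ≠ 0 := by
    by_cases hb : polar Q w₀ w = 0
    · by_cases hp : Pm w w₀
      · obtain ⟨t, ht, a⟩ := exists_iso_one hS h0.iso
        refine ⟨t, ht, by rw [a]; exact one_ne_zero, ?_⟩
        rw [p_comm, Ne, pm_polar_zero hp t, p_comm, a]
        exact one_ne_zero
      · obtain ⟨t, ht, a, b⟩ := exists_iso_one_one hS h0.iso hw hp hb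
        exact ⟨t, ht, by rw [a]; exact one_ne_zero, by rw [b]; exact one_ne_zero⟩
    · set β := polar Q w₀ w with hβ
      have hs : Q (β • w) = 0 := by rw [q_smul, hw.2, mul_zero]
      have hws : polar Q w₀ (β • w) = 1 := by rw [p_smul_right, ← hβ, z3_sq hb]
      obtain ⟨e1, e2, e3, e4⟩ := pair_facts h0.iso.2 hs hws
      obtain ⟨z, hz, hzp⟩ := exists_one_perp hS ![w₀ + β • w, w₀ + -(β • w)]
        (by have := hS.dim; omega)
        (fun i => by
          fin_cases i
          · show Q (w₀ + β • w) ≠ 0; rw [e1]; exact one_ne_zero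
          · show Q (w₀ + -(β • w)) ≠ 0; rw [e2]; decide)
        (fun i j hij => by
          fin_cases i <;> fin_cases j
          all_goals first
            | exact absurd rfl hij
            | exact e3
            | (rw [p_comm]; exact e3))
      have hz0 : polar Q z w₀ = 0 := e4 z (hzp 0) (hzp 1)
      have hzw : polar Q z w = 0 := by
        have h1 : polar Q z (w₀ + β • w) = 0 := hzp 0
        rw [polar_add_right, hz0, p_smul_right, zero_add] at h1
        exact (mul_eq_zero.1 h1).resolve_left hb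
      set t := w₀ + -(β • w) + z with ht
      have ha : polar Q w₀ t = -1 := by
        rw [ht, polar_add_right, polar_add_right, polar_neg_right, p_self_iso h0.iso.2, hws,
          p_comm w₀ z, hz0, add_zero, zero_add]
      have hb' : polar Q w t = β := by
        rw [ht, polar_add_right, polar_add_right, polar_neg_right, p_comm w w₀, ← hβ, p_smul_right,
          p_self_iso hw.2, p_comm w z, hzw, mul_zero, neg_zero, add_zero, add_zero]
      have ht0 : Q t = 0 := by
        rw [ht, q_add, e2, hz, polar_add_left, polar_neg_left, p_comm w₀ z, hz0, p_smul_left,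
          p_comm w z, hzw, mul_zero, neg_zero]
        decide
      exact ⟨t, ⟨fun e => by rw [e, p_zero_right] at ha; exact absurd ha (by decide), ht0⟩,
        by rw [ha]; decide, by rw [hb']; exact hb⟩
  obtain ⟨ct, hct, ok⟩ := exists_ok hH hM h0 ht a
  exact ⟨t, ct, a, b, hct, ok⟩

theorem good_unique {c₀ c c' : G} {w₀ w : V} (h0 : Pol D d Q p c₀ w₀)
    (h : Good D d Q p c₀ w₀ w c) (h' : Good D d Q p c₀ w₀ w c') : c' = c := by
  obtain ⟨t, ct, a, b, hct, ok⟩ := exists_test hH hM hS h0 h.1.iso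
  exact ok_unique hH hM hS hct h.1 h'.1 (by rwa [p_comm])
    (h.2 t ct a b hct ok).symm (h'.2 t ct a b hct ok).symm

theorem good_neg {c₀ c : G} {w₀ w : V} (h : Good D d Q p c₀ w₀ w c) :
    Good D d Q p c₀ w₀ (-w) (d * c * d) := by
  refine ⟨(h.1.flip hH hM).of_pm (Pm.neg_left _), fun t ct a b hct ok => ?_⟩
  have b' : polar Q w t ≠ 0 := fun e => b (by rw [polar_neg_left, e, neg_zero])
  exact ((ok_flip hH hM hS hct h.1 (by rwa [p_comm])).2 (h.2 t ct a b' hct ok).symm).symm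

/-- The members not commuting with `d` are the nonzero isotropic vectors, two with non-orthogonal
vectors commuting exactly when the product is one. -/
theorem exists_aside_map :
    ∃ h : V → G, (∀ w, Iso Q w → Pol D d Q p (h w) w) ∧
      (∀ w, Iso Q w → h (-w) = d * h w * d) ∧
      (∀ e ∈ aside D d, ∃ w, Iso Q w ∧ h w = e) ∧
      (∀ w w', Iso Q w → Iso Q w' → h w = h w' → w = w') ∧
      ∀ w w', Iso Q w → Iso Q w' → polar Q w w' ≠ 0 →
        (Commute (h w) (h w') ↔ polar Q w w' = 1) := by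
  classical
  obtain ⟨e, he, hde⟩ := hH.exists_not_commute hM.base
  obtain ⟨w₀, h0⟩ := exists_pol hH hM hS ⟨he, hde⟩
  set h : V → G := fun w => if hw : Iso Q w then (exists_good hH hM hS h0 hw).choose else 1
  have hgood : ∀ w, Iso Q w → Good D d Q p e w₀ w (h w) := fun w hw => by
    simp only [h, dif_pos hw]
    exact (exists_good hH hM hS h0 hw).choose_spec
  have hneg : ∀ w, Iso Q w → h (-w) = d * h w * d := fun w hw =>
    good_unique hH hM hS h0 (good_neg hH hM hS (hgood w hw)) (hgood _ hw.neg)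
  have hsign : ∀ w w', Iso Q w → Iso Q w' → polar Q w w' ≠ 0 → Ok Q (h w) w (h w') w' := by
    -- one of them not orthogonal to the first
    have one : ∀ w w', Iso Q w → Iso Q w' → polar Q w₀ w ≠ 0 → polar Q w w' ≠ 0 →
        Ok Q (h w) w (h w') w' := by
      intro w w' hw hw' hb hww
      obtain ⟨t, ct, a, b, hct, ok⟩ := exists_test hH hM hS h0 hw
      have hg := hgood w hw
      obtain ⟨c, hc, hok⟩ := exists_ok hH hM h0 hw hb
      have hcw : h w = c := good_unique hH hM hS h0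
        ⟨hc, fun t ct ht0 htw hct ok => triangle hH hM hS h0 hc hct hb ht0 htw hok ok⟩ hg
      have hg' := (hgood w' hw').2 w (h w) hb (by rwa [p_comm]) hg.1 (hcw ▸ hok)
      exact hg'.symm
    intro w w' hw hw' hww
    by_cases hb : polar Q w₀ w = 0
    swap
    · exact one w w' hw hw' hb hww
    by_cases hb' : polar Q w₀ w' = 0
    swap
    · exact (one w' w hw' hw hb' (by rwa [p_comm])).symm
    obtain ⟨t, ht, a, b, b'⟩ := exists_iso_three hS h0.iso hw hb hb' hww
    obtain ⟨ct, hct, ok⟩ := exists_ok hH hM h0 ht (by rw [a]; exact one_ne_zero)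
    have n : ∀ {x : V}, polar Q x t = 1 → polar Q x t ≠ 0 := fun e => by rw [e]; exact one_ne_zero
    exact triangle hH hM hS hct (hgood w hw).1 (hgood w' hw').1 (by rw [p_comm]; exact n b)
      (by rw [p_comm]; exact n b') hww ((hgood w hw).2 t ct (n a) (n b) hct ok).symm
      ((hgood w' hw').2 t ct (n a) (n b') hct ok).symm
  refine ⟨h, fun w hw => (hgood w hw).1, hneg, fun c hc => ?_, fun w w' hw hw' he' => ?_, hsign⟩
  · obtain ⟨w, hw⟩ := exists_pol hH hM hS hc
    rcases pol_eq_or_flip hH hM hS (hgood w hw.iso).1 hw with h1 | h1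
    · exact ⟨w, hw.iso, h1.symm⟩
    · exact ⟨-w, hw.iso.neg, by rw [hneg w hw.iso, h1]⟩
  · rcases pol_pm hH hM hS (hgood w hw).1 (he' ▸ (hgood w' hw').1) with h1 | h1
    · exact h1.symm
    · exfalso
      have h2 : h w = d * h w * d := by
        conv_lhs => rw [he', h1, hneg w hw]
      refine (hgood w hw).1.mem.2 (show d * h w = h w * d from ?_)
      calc d * h w = d * h w * d * d := (ThreeTrans.mul_mul_self hH.cls.1 hM.base _).symm
        _ = h w * d := by rw [← h2]

end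

end Cfsg.Agent.FischerThm.Refl
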